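import Cfsg.Agent.S3072
import Cfsg.Agent.Solvable.Basics

/-!
An involution `v` outside a normal subgroup `G₀` of index two, centralising a Sylow 2-subgroup
`S` of `G₀`, is isolated in `S ⟨v⟩` as soon as it is fixed by the normalisers of the centric
subgroups of `S` that move it within their centres.
-/

set_option autoImplicit false
set_option linter.style.haveILetI false
set_option linter.unusedSectionVars false

namespace Cfsg.Agent.SylowFix.Isolated

open Subgroup

variable {H : Type*} [Group H] [Finite H]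

/-- A 2-subgroup `T` of `A` has at most the order of `B`, a maximal one. -/
theorem card_le_of_maximal {p : ℕ} [Fact p.Prime] {A B : Subgroup H} (hBA : B ≤ A)
    (hB : IsPGroup p B) (hmax : ∀ R : Subgroup H, IsPGroup p R → B ≤ R → R ≤ A → R = B)
    {T : Subgroup H} (hT : IsPGroup p T) (hTA : T ≤ A) :
    ∃ a ∈ A, ∀ t ∈ T, a * t * a⁻¹ ∈ B := by
  obtain ⟨Q, hQ⟩ := (hB.comap_of_injective A.subtype A.subtype_injective).exists_le_sylow
  obtain ⟨Q', hQ'⟩ := (hT.comap_of_injective A.subtype A.subtype_injective).exists_le_sylow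
  have hQB : (Q : Subgroup A).map A.subtype = B :=
    hmax _ (Q.isPGroup'.map _) (fun b hb => ⟨⟨b, hBA hb⟩, hQ (show b ∈ B from hb), rfl⟩)
      (map_subtype_le _)
  obtain ⟨a, ha⟩ := MulAction.exists_smul_eq A Q' Q
  refine ⟨a, a.2, fun t ht => ?_⟩
  have h1 : (⟨t, hTA ht⟩ : A) ∈ (Q' : Subgroup A) := hQ' (show t ∈ T from ht)
  have h2 : a * ⟨t, hTA ht⟩ * a⁻¹ ∈ (Q : Subgroup A) := by
    rw [← ha]
    exact ⟨_, h1, by simp⟩
  rw [← hQB]
  exact ⟨_, h2, by simp⟩

theorem isolated (G₀ S : Subgroup H) [hG₀ : G₀.Normal] (v : H) (hv2 : v * v = 1) (hvG : v ∉ G₀)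
    (hcover : ∀ x : H, x ∈ G₀ ∨ x * v ∈ G₀) (hSG : S ≤ G₀) (hS2 : IsPGroup 2 S)
    (hSmax : ∀ T : Subgroup H, IsPGroup 2 T → S ≤ T → T ≤ G₀ → T = S)
    (hvS : ∀ s ∈ S, v * s = s * v)
    (hfix : ∀ Q : Subgroup H, Q ≤ S →
      (∀ X : Subgroup H, IsPGroup 2 X → X ≤ G₀ → X ≤ centralizer (Q : Set H) →
        Nat.card X ≤ Nat.card (Q ⊓ centralizer (Q : Set H) : Subgroup H)) →
      ∀ n ∈ G₀, n ∈ normalizer (Q : Set H) → n⁻¹ * v * n * v ∈ Q → n⁻¹ * v * n = v) :
    ∃ P : Sylow 2 H, v ∈ P ∧ ∀ g : H, g * v * g⁻¹ ∈ P → g * v * g⁻¹ = v := by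
  classical
  haveI : Fact (Nat.Prime 2) := ⟨Nat.prime_two⟩
  have hvinv : v⁻¹ = v := inv_eq_of_mul_eq_one_left hv2
  let D : Subgroup H :=
    { carrier := {x | x ∈ S ∨ x * v ∈ S}
      one_mem' := Or.inl S.one_mem
      mul_mem' := by
        rintro a b (ha | ha) (hb | hb)
        · exact Or.inl (mul_mem ha hb)
        · exact Or.inr (by rw [mul_assoc]; exact mul_mem ha hb)
        · refine Or.inr ?_
          have : a * b * v = a * v * b := by rw [mul_assoc, mul_assoc, hvS b hb]
          rw [this]; exact mul_mem ha hb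
        · refine Or.inl ?_
          have : a * b = a * v * (b * v) := by
            have h := hvS (b * v) hb
            calc a * b = a * (b * v * v) := by rw [mul_assoc b, hv2, mul_one]
              _ = a * (v * (b * v)) := by rw [h]
              _ = a * v * (b * v) := (mul_assoc _ _ _).symm
          rw [this]; exact mul_mem ha hb
      inv_mem' := by
        rintro a (ha | ha)
        · exact Or.inl (inv_mem ha)
        · refine Or.inr ?_
          have h := hvS _ (inv_mem ha)
          rw [mul_inv_rev, hvinv] at h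
          have : a⁻¹ * v = v * a⁻¹ := by
            calc a⁻¹ * v = v * (v * a⁻¹) * v := by rw [← mul_assoc v v, hv2, one_mul]
              _ = v * (v * a⁻¹ * v) := mul_assoc _ _ _
              _ = v * a⁻¹ := by rw [← h, ← mul_assoc v v, hv2, one_mul]
          rw [this]
          have := inv_mem ha
          rwa [mul_inv_rev, hvinv] at this }
  have hD : IsPGroup 2 D := by
    intro ⟨x, hx⟩
    rcases hx with hx | hx
    · obtain ⟨k, hk⟩ := hS2 ⟨x, hx⟩
      exact ⟨k, Subtype.ext (congrArg Subtype.val hk :)⟩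
    · obtain ⟨k, hk⟩ := hS2 ⟨x * v, hx⟩
      refine ⟨k + 1, Subtype.ext ?_⟩
      have hk' : (x * v) ^ 2 ^ k = 1 := congrArg Subtype.val hk
      show x ^ 2 ^ (k + 1) = 1
      have e : x * x = (x * v) * (x * v) := by
        have h := hvS _ hx
        calc x * x = x * (v * v) * x * (v * v) := by rw [hv2, mul_one, mul_one]
          _ = x * v * (v * (x * v)) * v := by group
          _ = x * v * (x * v * v) * v := by rw [h]
          _ = x * v * (x * v) * (v * v) := by group
          _ = _ := by rw [hv2, mul_one]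
      rw [pow_succ', pow_mul, pow_two, e, ← pow_two, ← pow_mul, mul_comm, pow_mul, hk', one_pow]
  obtain ⟨P, hDP⟩ := hD.exists_le_sylow
  have hSP : S ≤ P := fun s hs => hDP (Or.inl hs)
  have hvP : v ∈ P := hDP (Or.inr (by rw [hv2]; exact S.one_mem))
  have hPG : (P : Subgroup H) ⊓ G₀ = S :=
    hSmax _ (P.isPGroup'.to_le inf_le_left) (le_inf hSP hSG) inf_le_right
  have hP : ∀ x ∈ (P : Subgroup H), x ∈ S ∨ x * v ∈ S := fun x hx => (hcover x).imp
    (fun h => by rw [← hPG]; exact ⟨hx, h⟩) (fun h => by rw [← hPG]; exact ⟨mul_mem hx hvP, h⟩)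
  have step : ∀ (Hi : Subgroup H), Hi ≤ P → v ∈ Hi →
      ¬ 2 ∣ ((P : Subgroup H) ⊓ normalizer (Hi : Set H)).relIndex (normalizer (Hi : Set H)) →
      (P : Subgroup H) ⊓ centralizer (Hi : Set H) ≤ Hi →
      ∀ x ∈ normalizer (Hi : Set H), x⁻¹ * v * x = v := by
    intro Hi hHiP hvHi hfull hcent
    set Q := Hi ⊓ G₀ with hQ
    have hQS : Q ≤ S := fun q hq => by rw [← hPG]; exact ⟨hHiP hq.1, hq.2⟩
    have hvQ : ∀ q ∈ Q, v * q = q * v := fun q hq => hvS q (hQS hq)
    have hHi : ∀ h ∈ Hi, h ∈ Q ∨ h * v ∈ Q := fun h hh => (hcover h).imp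
      (fun h' => ⟨hh, h'⟩) (fun h' => ⟨mul_mem hh hvHi, h'⟩)
    have hNQ : ∀ a ∈ normalizer (Hi : Set H), a ∈ normalizer (Q : Set H) := fun a ha => by
      rw [mem_normalizer_iff] at ha ⊢
      intro q
      show q ∈ Hi ∧ q ∈ G₀ ↔ a * q * a⁻¹ ∈ Hi ∧ a * q * a⁻¹ ∈ G₀
      rw [← ha q, ← (show q ∈ G₀ ↔ a * q * a⁻¹ ∈ G₀ from
        ⟨fun h => hG₀.conj_mem q h a, fun h => by
          have := hG₀.conj_mem _ h a⁻¹
          rwa [inv_inv, show a⁻¹ * (a * q * a⁻¹) * a = q by group] at this⟩)]
    set U := centralizer (Q : Set H)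
    have hvU : v ∈ U := mem_centralizer_iff.mpr fun q hq => (hvQ q hq).symm
    set A := U ⊓ normalizer (Hi : Set H) with hA
    set B := (P : Subgroup H) ⊓ A with hB
    have hvB : v ∈ B := ⟨hvP, hvU, Subgroup.le_normalizer hvHi⟩
    -- the elements of `B` in `S` lie in `Q`
    have hBQ : ∀ b ∈ B, b ∈ S → b ∈ Q := by
      rintro b ⟨hbP, hbU, -⟩ hbS
      refine ⟨hcent ⟨hbP, mem_centralizer_iff.mpr fun h hh => ?_⟩, hSG hbS⟩
      rcases hHi h hh with h' | h'
      · exact mem_centralizer_iff.mp hbU h h'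
      · calc h * b = h * (v * v) * b := by rw [hv2, mul_one]
          _ = h * v * (v * b) := by simp only [mul_assoc]
          _ = h * v * (b * v) := by rw [hvS b hbS]
          _ = (h * v * b) * v := by group
          _ = (b * (h * v)) * v := by rw [mem_centralizer_iff.mp hbU _ h']
          _ = b * h := by rw [mul_assoc b, mul_assoc h, hv2, mul_one]
    have hBHi : B ≤ Hi := fun b hb => by
      rcases hP b hb.1 with h | h
      · exact (hBQ b hb h).1
      · have := mul_mem (hBQ _ (mul_mem hb hvB) h).1 hvHi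
        rwa [mul_assoc, hv2, mul_one] at this
    -- `B` is a Sylow subgroup of `A`
    have hBA : ∀ R : Subgroup H, IsPGroup 2 R → B ≤ R → R ≤ A → R = B := by
      intro R hR hBR hRA
      set N := normalizer (Hi : Set H)
      haveI : Fact (Nat.Prime 2) := ⟨Nat.prime_two⟩
      have hPN : ∀ T : Subgroup H, IsPGroup 2 T → (P : Subgroup H) ⊓ N ≤ T → T ≤ N →
          T = (P : Subgroup H) ⊓ N := by
        intro T hT h1 h2
        refine le_antisymm ?_ h1
        obtain ⟨k, hk⟩ : ∃ k, ((P : Subgroup H) ⊓ N).relIndex T = 2 ^ k := by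
          obtain ⟨m, hm⟩ := hT.exists_card_eq
          obtain ⟨k, -, hk⟩ := (Nat.dvd_prime_pow Nat.prime_two).mp
            (hm ▸ (((P : Subgroup H) ⊓ N).relIndex_dvd_card (K := T)))
          exact ⟨k, hk⟩
        rcases k with _ | k
        · exact relIndex_eq_one.mp (by simpa using hk)
        · refine absurd ?_ hfull
          rw [← relIndex_mul_relIndex _ T N h1 h2, hk]
          exact (dvd_pow_self 2 (Nat.succ_ne_zero k)).mul_right _
      obtain ⟨a, haN, ha⟩ := card_le_of_maximal (A := N) inf_le_right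
        (P.isPGroup'.to_le inf_le_left) hPN hR (hRA.trans inf_le_right)
      have hle : R.map (MulAut.conj a).toMonoidHom ≤ B := by
        rintro _ ⟨r, hr, rfl⟩
        refine ⟨(ha r hr).1, mem_centralizer_iff.mpr fun q hq => ?_, (ha r hr).2⟩
        have hq' : a⁻¹ * q * a ∈ Q := by
          have := (mem_normalizer_iff.mp (inv_mem (hNQ a haN)) q).mp hq
          rwa [inv_inv] at this
        have := mem_centralizer_iff.mp (hRA hr).1 _ hq'
        show q * (a * r * a⁻¹) = a * r * a⁻¹ * q
        calc q * (a * r * a⁻¹) = a * (a⁻¹ * q * a * r) * a⁻¹ := by group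
          _ = a * (r * (a⁻¹ * q * a)) * a⁻¹ := by rw [this]
          _ = _ := by group
      have hc := Nat.card_le_card_of_injective _ (inclusion_injective hle)
      rw [card_map_of_injective (MulEquiv.injective _)] at hc
      exact (eq_of_le_of_card_ge hBR hc).symm
    have hB2 : IsPGroup 2 B := P.isPGroup'.to_le inf_le_left
    have hUB : ∀ R : Subgroup H, IsPGroup 2 R → B ≤ R → R ≤ U → R = B := by
      intro R hR hBR hRU
      by_contra hne
      haveI := hR.isNilpotent
      have hlt : B.subgroupOf R < ⊤ := lt_top_iff_ne_top.mpr fun h =>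
        hne (le_antisymm (subgroupOf_eq_top.mp h) hBR)
      obtain ⟨t, htN, htB⟩ :=
        SetLike.exists_of_lt (Group.normalizerCondition_of_isNilpotent _ hlt)
      have hcl : B ⊔ zpowers (t : H) ≤ R := sup_le hBR (zpowers_le.mpr t.2)
      have htA : (t : H) ∈ A := by
        refine ⟨hRU t.2, mem_normalizer_fintype ?_⟩
        intro h hh
        show (t : H) * h * (t : H)⁻¹ ∈ Hi
        have hQt : ∀ q ∈ Q, (t : H) * q * (t : H)⁻¹ ∈ Hi := fun q hq => by
          rw [← mem_centralizer_iff.mp (hRU t.2) q hq, mul_inv_cancel_right]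
          exact hq.1
        rcases hHi h hh with h' | h'
        · exact hQt h h'
        · have hv' : (t : H) * v * (t : H)⁻¹ ∈ Hi := by
            have := (mem_normalizer_iff.mp htN ⟨v, hBR hvB⟩).mp hvB
            exact hBHi this
          have := mul_mem (hQt _ h') hv'
          rwa [show (t : H) * (h * v) * (t : H)⁻¹ * ((t : H) * v * (t : H)⁻¹) =
            (t : H) * (h * (v * v)) * (t : H)⁻¹ by group, hv2, mul_one] at this
      have := hBA _ (hR.to_le hcl) le_sup_left
        (sup_le inf_le_right (zpowers_le.mpr htA))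
      exact htB (show (t : H) ∈ B from this ▸ mem_sup_right (mem_zpowers _))
    intro x hx
    have key : ∀ n ∈ G₀, n ∈ normalizer (Hi : Set H) → n⁻¹ * v * n = v := by
      intro n hn hnN
      refine hfix Q hQS (fun X hX hXG hXU => ?_) n hn (hNQ n hnN) ?_
      · obtain ⟨a, haU, ha⟩ := card_le_of_maximal (inf_le_right.trans inf_le_left) hB2 hUB hX hXU
        have hle : X.map (MulAut.conj a).toMonoidHom ≤ Q ⊓ U := by
          rintro _ ⟨y, hy, rfl⟩
          have h1 := ha y hy
          refine ⟨hBQ _ h1 ?_, h1.2.1⟩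
          rw [← hPG]
          exact ⟨h1.1, hG₀.conj_mem y (hXG hy) a⟩
        have hc := Nat.card_le_card_of_injective _ (inclusion_injective hle)
        rwa [card_map_of_injective (MulEquiv.injective _)] at hc
      · have hmem : n⁻¹ * v * n * v ∈ Hi := by
          refine mul_mem ?_ hvHi
          have := (mem_normalizer_iff.mp (inv_mem hnN) v).mp hvHi
          rwa [inv_inv] at this
        have hG : n⁻¹ * (v * n * v⁻¹) ∈ G₀ := mul_mem (inv_mem hn) (hG₀.conj_mem n hn v)
        rw [hvinv] at hG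
        exact ⟨hmem, by simpa [mul_assoc] using hG⟩
    rcases hcover x with h | h
    · exact key x h hx
    · have h1 := key (x * v) h (mul_mem hx (Subgroup.le_normalizer hvHi))
      rw [mul_inv_rev, hvinv] at h1
      calc x⁻¹ * v * x = v * (v * x⁻¹ * v * (x * v)) * v := by
            rw [show v * (v * x⁻¹ * v * (x * v)) * v = (v * v) * (x⁻¹ * v * x) * (v * v) by
              simp only [mul_assoc], hv2, one_mul, mul_one]
        _ = v := by rw [h1, hv2, one_mul]
  refine ⟨P, hvP, fun g hg => ?_⟩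
  have hv1 : v ≠ 1 := fun h => hvG (h ▸ one_mem _)
  obtain ⟨n, Hs, Xs, xs, c, y, hc, hy, hgeq, hprop⟩ :=
    Cfsg.Agent.S3072.result P {v} (by simpa using hvP) ⟨v, rfl, hv1⟩ g⁻¹
      (by rintro _ ⟨_, rfl, rfl⟩; simpa using hg)
  have hw : ∀ k, k ≤ n → (((List.ofFn xs).take k).prod)⁻¹ * v * ((List.ofFn xs).take k).prod = v := by
    intro k hk
    induction k with
    | zero => simp
    | succ k ih =>
      obtain ⟨hHP, hfull, hcent, -, -, ⟨-, hXN, -, -, -⟩, hx, hmem⟩ := hprop ⟨k, by omega⟩
      have hvH : v ∈ Hs ⟨k, by omega⟩ := by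
        have := hmem ⟨v, rfl, rfl⟩
        dsimp only at this
        rwa [ih (by omega)] at this
      have hxN := hXN (map_subtype_le _ hx)
      have h1 := step _ hHP hvH hfull hcent _ hxN
      rw [List.take_succ, List.getElem?_eq_getElem (by simpa using hk), Option.toList_some,
        List.prod_append, List.prod_singleton, List.getElem_ofFn, mul_inv_rev]
      calc _ = (xs ⟨k, hk⟩)⁻¹ * ((((List.ofFn xs).take k).prod)⁻¹ * v *
              ((List.ofFn xs).take k).prod) * xs ⟨k, hk⟩ := by group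
        _ = v := by rw [ih (by omega)]; exact h1
  have hprod := hw n le_rfl
  rw [List.take_of_length_le (by simp)] at hprod
  have hyv : y⁻¹ * v * y = v := by
    refine step _ le_rfl hvP ?_ (fun _ h => h.1) y hy
    rw [inf_eq_left.mpr Subgroup.le_normalizer]
    intro h
    exact P.not_dvd_index (h.trans (relIndex_dvd_index_of_le Subgroup.le_normalizer))
  have hcv : c⁻¹ * v * c = v := by
    rw [mul_assoc, mem_centralizer_iff.mp hc v rfl, inv_mul_cancel_left]
  calc g * v * g⁻¹ = (g⁻¹)⁻¹ * v * g⁻¹ := by rw [inv_inv]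
    _ = y⁻¹ * (((List.ofFn xs).prod)⁻¹ * (c⁻¹ * v * c) * (List.ofFn xs).prod) * y := by
        rw [hgeq]; group
    _ = v := by rw [hcv, hprod, hyv]

end Cfsg.Agent.SylowFix.Isolated
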