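import Cfsg.Agent.S0205
import Cfsg.Agent.S0215
import Cfsg.Agent.Lib.SylowFix.Isolated

/-!
Automorphisms fixing a Sylow 2-subgroup of a group with trivial odd core pointwise: the abelian
homomorphism on the centric subgroups, and the odd order of its kernel.
-/

set_option autoImplicit false
set_option linter.style.haveILetI false
set_option linter.unusedSectionVars false

namespace Cfsg.Agent.SylowFix.Solvable

open Subgroup
open scoped IsMulCommutative

variable {G : Type*} [Group G] [Finite G]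

/-- The centre of `Q`, as a subgroup of `G`. -/
def T (Q : Subgroup G) : Subgroup G := Q ⊓ centralizer (Q : Set G)

theorem T_le (Q : Subgroup G) : T Q ≤ centralizer (Q : Set G) := inf_le_right

/-- `Q` is centric: its centre is a Sylow 2-subgroup of its centralizer. -/
def Centric (Q : Subgroup G) : Prop :=
  ∀ X : Subgroup G, IsPGroup 2 X → X ≤ centralizer (Q : Set G) → Nat.card X ≤ Nat.card (T Q)

theorem exists_pow {S : Subgroup G} (hS : IsPGroup 2 S) {Q : Subgroup G} (hQS : Q ≤ S)
    (hQ : Centric Q) :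
    ∃ e : ℕ, (∀ y ∈ centralizer (Q : Set G), y ^ e ∈ T Q) ∧
      (∀ y ∈ centralizer (Q : Set G), ∀ z ∈ centralizer (Q : Set G), (y * z) ^ e = y ^ e * z ^ e) ∧
      ∀ y ∈ T Q, y ^ e = 1 → y = 1 := by
  classical
  haveI : Fact (Nat.Prime 2) := ⟨Nat.prime_two⟩
  set C := centralizer (Q : Set G) with hC
  set U := (T Q).subgroupOf C with hU
  have hU2 : IsPGroup 2 U :=
    ((hS.to_le (inf_le_left.trans hQS)).comap_of_injective C.subtype C.subtype_injective)
  have hodd : ¬ 2 ∣ U.index := by
    intro h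
    obtain ⟨R, hR⟩ := hU2.exists_le_sylow
    have h1 : (R : Subgroup C) = U := by
      refine (eq_of_le_of_card_ge hR ?_).symm
      have h2 := hQ ((R : Subgroup C).map C.subtype) (R.isPGroup'.map _) (map_subtype_le _)
      rwa [card_map_of_injective C.subtype_injective, ← Nat.card_congr
        (subgroupOfEquivOfLe (T_le Q)).toEquiv] at h2
    exact R.not_dvd_index (by rw [h1]; exact h)
  have hUZ : U ≤ Subgroup.center C := fun u hu => Subgroup.mem_center_iff.mpr fun c =>
    Subtype.ext (mem_centralizer_iff.mp c.2 u (show (u : G) ∈ Q from hu.1)).symm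
  haveI : U.Normal := ⟨fun u hu c => by
    rwa [(Subgroup.mem_center_iff.mp (hUZ hu) c), mul_inv_cancel_right]⟩
  have hmem : ∀ y : C, y ^ U.index ∈ U := fun y => Subgroup.pow_index_mem U y
  have hidx : (Subgroup.center C).index ∣ U.index := index_dvd_of_le hUZ
  obtain ⟨k, hk⟩ := hidx
  have hmul : ∀ y z : C, (y * z) ^ U.index = y ^ U.index * z ^ U.index := by
    intro y z
    have h1 : (y * z) ^ (Subgroup.center C).index =
        y ^ (Subgroup.center C).index * z ^ (Subgroup.center C).index :=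
      congrArg Subtype.val (map_mul (MonoidHom.transferCenterPow C) y z)
    have h2 : Commute (y ^ (Subgroup.center C).index) (z ^ (Subgroup.center C).index) :=
      (Subgroup.mem_center_iff.mp (MonoidHom.transferCenterPow C z).2 _)
    rw [hk, pow_mul, pow_mul, pow_mul, h1, h2.mul_pow]
  refine ⟨U.index, fun y hy => hmem ⟨y, hy⟩, fun y hy z hz =>
    congrArg Subtype.val (hmul ⟨y, hy⟩ ⟨z, hz⟩), fun y hy h1 => ?_⟩
  obtain ⟨m, hm⟩ := hS ⟨y, hQS hy.1⟩
  have hm' : y ^ 2 ^ m = 1 := congrArg Subtype.val hm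
  have hco : Nat.Coprime (2 ^ m) U.index :=
    ((Nat.prime_two.coprime_iff_not_dvd).mpr hodd).pow_left m
  simpa [hco.gcd_eq_one] using pow_gcd_eq_one.mpr ⟨hm', h1⟩

section
variable (S : Sylow 2 G) (C : Subgroup (MulAut G))

/-- Index set. -/
abbrev Idx : Type _ := Σ Q : {Q : Subgroup G // Q ≤ (S : Subgroup G) ∧ Centric Q},
  {n : G // n ∈ normalizer ((Q : Subgroup G) : Set G)}

theorem T_comm (Q : Subgroup G) : IsMulCommutative (T Q) :=
  ⟨⟨fun a b => Subtype.ext (mem_centralizer_iff.mp b.2.2 a a.2.1)⟩⟩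

instance (Q : Subgroup G) : IsMulCommutative (T Q) := T_comm Q

theorem disp_mem {c : MulAut G} {Q : Subgroup G} (hc : ∀ q ∈ Q, c q = q) {n : G}
    (hn : n ∈ normalizer (Q : Set G)) : n⁻¹ * c n ∈ centralizer (Q : Set G) := by
  refine mem_centralizer_iff.mpr fun q hq => ?_
  have h1 := (mem_normalizer_iff.mp hn q).mp hq
  have h2 : c n * q * (c n)⁻¹ = n * q * n⁻¹ := by
    have := hc _ h1
    rwa [map_mul, map_mul, map_inv, hc q hq] at this
  calc q * (n⁻¹ * c n) = n⁻¹ * (n * q * n⁻¹) * c n := by group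
    _ = n⁻¹ * (c n * q * (c n)⁻¹) * c n := by rw [h2]
    _ = _ := by group

variable (hC : ∀ φ : MulAut G, φ ∈ C ↔ ∀ s : G, s ∈ S → φ s = s)
include hC

theorem fix_Q {c : C} {Q : Subgroup G} (hQ : Q ≤ (S : Subgroup G)) :
    ∀ q ∈ Q, (c : MulAut G) q = q := fun q hq => (hC _).mp c.2 q (hQ hq)

/-- The exponent of the power map. -/
noncomputable def expo (i : Idx S) : ℕ :=
  (exists_pow (S := (S : Subgroup G)) S.isPGroup' i.1.2.1 i.1.2.2).choose

/-- The homomorphism to an abelian group. -/
noncomputable def δ : C →* ((i : Idx S) → T (i.1 : Subgroup G)) :=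
  MonoidHom.mk' (fun c i => ⟨(i.2.1⁻¹ * (c : MulAut G) i.2.1) ^ expo S i,
      (exists_pow S.isPGroup' i.1.2.1 i.1.2.2).choose_spec.1 _
        (disp_mem (fix_Q S C hC i.1.2.1) i.2.2)⟩) fun a b => by
    funext i
    obtain ⟨⟨Q, hQ⟩, n, hn⟩ := i
    refine Subtype.ext ?_
    set e := expo S ⟨⟨Q, hQ⟩, n, hn⟩ with he
    have hmem : ∀ y ∈ centralizer (Q : Set G), y ^ e ∈ T Q :=
      (exists_pow (S := (S : Subgroup G)) S.isPGroup' hQ.1 hQ.2).choose_spec.1
    have hmul : ∀ y ∈ centralizer (Q : Set G), ∀ z ∈ centralizer (Q : Set G),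
        (y * z) ^ e = y ^ e * z ^ e :=
      (exists_pow (S := (S : Subgroup G)) S.isPGroup' hQ.1 hQ.2).choose_spec.2.1
    have hb := disp_mem (fix_Q S C hC (c := b) hQ.1) hn
    have hab : (a : MulAut G) (n⁻¹ * (b : MulAut G) n) ∈ centralizer (Q : Set G) := by
      refine mem_centralizer_iff.mpr fun q hq => ?_
      rw [← fix_Q S C hC (c := a) hQ.1 q hq, ← map_mul, ← map_mul,
        mem_centralizer_iff.mp hb q hq]
    show (n⁻¹ * (a : MulAut G) ((b : MulAut G) n)) ^ e = (n⁻¹ * (a : MulAut G) n) ^ e *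
      (n⁻¹ * (b : MulAut G) n) ^ e
    rw [show n⁻¹ * (a : MulAut G) ((b : MulAut G) n) =
      (n⁻¹ * (a : MulAut G) n) * (a : MulAut G) (n⁻¹ * (b : MulAut G) n) by
        rw [map_mul, map_inv]; group,
      hmul _ (disp_mem (fix_Q S C hC hQ.1) hn) _ hab, ← map_pow,
      fix_Q S C hC (c := a) hQ.1 _ (hmem _ hb).1]

variable (hO : ∀ N : Subgroup G, N.Normal → Odd (Nat.card N) → N = ⊥)
include hO

theorem eq_one_of_involution (c : C) (hc2 : c * c = 1) (hδ : δ S C hC c = 1) : c = 1 := by
  classical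
  by_contra hne
  haveI : Fact (Nat.Prime 2) := ⟨Nat.prime_two⟩
  set V : Subgroup (MulAut G) := zpowers (c : MulAut G) with hV
  let c' : V := ⟨(c : MulAut G), mem_zpowers _⟩
  have hcc : (c : MulAut G) * (c : MulAut G) = 1 := congrArg Subtype.val hc2
  have hcinv : (c : MulAut G)⁻¹ = (c : MulAut G) := inv_eq_of_mul_eq_one_left hcc
  have hVel : ∀ x : V, x = 1 ∨ x = c' := by
    rintro ⟨x, hx⟩
    obtain ⟨k, rfl⟩ := mem_zpowers_iff.mp hx
    rcases Int.even_or_odd k with ⟨j, rfl⟩ | ⟨j, rfl⟩
    · left; ext1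
      show (c : MulAut G) ^ (j + j) = 1
      rw [zpow_add, ← (Commute.refl _).mul_zpow, hcc, one_zpow]
    · right; ext1
      show (c : MulAut G) ^ (2 * j + 1) = c
      rw [zpow_add, zpow_mul, show (c : MulAut G) ^ (2 : ℤ) = 1 by rw [zpow_two, hcc], one_zpow,
        one_mul, zpow_one]
  haveI : Finite V := inferInstance
  haveI : Finite (G ⋊[V.subtype] V) := Finite.of_equiv _ SemidirectProduct.equivProd.symm
  set v : G ⋊[V.subtype] V := SemidirectProduct.inr c' with hv
  set G₀ : Subgroup (G ⋊[V.subtype] V) := (SemidirectProduct.inl : G →* _).range with hG₀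
  set S₀ : Subgroup (G ⋊[V.subtype] V) := (S : Subgroup G).map SemidirectProduct.inl with hS₀
  have hinj : Function.Injective (SemidirectProduct.inl : G →* G ⋊[V.subtype] V) :=
    SemidirectProduct.inl_injective
  haveI : G₀.Normal := by
    rw [hG₀, SemidirectProduct.range_inl_eq_ker_rightHom]; infer_instance
  have hconj : ∀ g : G, v * SemidirectProduct.inl g = SemidirectProduct.inl ((c : MulAut G) g) * v :=
    fun g => by
    apply SemidirectProduct.ext <;> simp [hv, c']
  have hv2 : v * v = 1 := by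
    rw [hv, ← map_mul, show c' * c' = 1 from Subtype.ext hcc, map_one]
  have hvG : v ∉ G₀ := by
    rintro ⟨g, hg⟩
    have := congrArg SemidirectProduct.right hg
    simp only [hv, SemidirectProduct.right_inl, SemidirectProduct.right_inr] at this
    exact hne (Subtype.ext (congrArg Subtype.val this).symm)
  have hcover : ∀ x, x ∈ G₀ ∨ x * v ∈ G₀ := fun x => by
    rcases hVel x.right with h | h
    · exact Or.inl ⟨x.left, by apply SemidirectProduct.ext <;> simp [h]⟩
    · refine Or.inr ⟨x.left, ?_⟩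
      apply SemidirectProduct.ext
      · simp [hv]
      · simp only [hv, SemidirectProduct.right_inl, SemidirectProduct.mul_right,
          SemidirectProduct.right_inr, h]
        exact (Subtype.ext hcc).symm
  have hback : ∀ (T' : Subgroup (G ⋊[V.subtype] V)), T' ≤ G₀ →
      T' = (T'.comap SemidirectProduct.inl).map SemidirectProduct.inl := fun T' h =>
    (map_comap_eq_self h).symm
  obtain ⟨P, hvP, hiso⟩ := Isolated.isolated G₀ S₀ v hv2 hvG hcover (map_le_range _ _)
    (S.isPGroup'.map _) (fun T' hT' hST hTG => by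
      rw [hback T' hTG, hS₀]
      congr 1
      exact S.is_maximal' (hT'.comap_of_injective _ hinj) (map_le_iff_le_comap.mp hST))
    (by
      rintro _ ⟨s, hs, rfl⟩
      rw [hconj, (hC _).mp c.2 s hs])
    (by
      intro Q' hQS hQc n' hn hnN hmem
      obtain ⟨n, rfl⟩ := hn
      set Q := Q'.comap (SemidirectProduct.inl : G →* G ⋊[V.subtype] V) with hQdef
      have hQ' : Q' = Q.map SemidirectProduct.inl := hback Q' (hQS.trans (map_le_range _ _))
      have hQle : Q ≤ (S : Subgroup G) := fun q hq => by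
        obtain ⟨s, hs, he⟩ := hQS hq
        rwa [← hinj he]
      have hcentl : ∀ y : G, y ∈ centralizer (Q : Set G) ↔
          SemidirectProduct.inl y ∈ centralizer (Q' : Set (G ⋊[V.subtype] V)) := by
        intro y
        rw [mem_centralizer_iff, mem_centralizer_iff, hQ']
        simp only [coe_map, Set.forall_mem_image, ← map_mul, hinj.eq_iff]
      have hcentric : Centric Q := by
        intro X hX hXC
        have h1 := hQc (X.map SemidirectProduct.inl) (hX.map _) (map_le_range _ _)
          (by rintro _ ⟨x, hx, rfl⟩; exact (hcentl x).mp (hXC hx))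
        rw [card_map_of_injective hinj] at h1
        refine h1.trans (le_of_eq ?_)
        rw [show Q' ⊓ centralizer (Q' : Set (G ⋊[V.subtype] V)) =
          (T Q).map SemidirectProduct.inl from ?_, card_map_of_injective hinj]
        ext y
        constructor
        · rintro ⟨h1, h2⟩
          rw [hQ'] at h1
          obtain ⟨q, hq, rfl⟩ := h1
          exact ⟨q, ⟨hq, (hcentl q).mpr h2⟩, rfl⟩
        · rintro ⟨q, ⟨hq, hq2⟩, rfl⟩
          exact ⟨hq, (hcentl q).mp hq2⟩
      have hnQ : n ∈ normalizer (Q : Set G) := by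
        rw [mem_normalizer_iff]
        intro q
        have := mem_normalizer_iff.mp hnN (SemidirectProduct.inl q)
        rwa [← map_inv, ← map_mul, ← map_mul] at this
      have heq : (SemidirectProduct.inl n)⁻¹ * v * SemidirectProduct.inl n =
          SemidirectProduct.inl (n⁻¹ * (c : MulAut G) n) * v := by
        rw [mul_assoc, hconj, ← mul_assoc, map_mul, map_inv]
      rw [heq, mul_assoc, hv2, mul_one] at hmem
      have hd : n⁻¹ * (c : MulAut G) n ∈ T Q :=
        ⟨hmem, disp_mem (fix_Q S C hC hQle) hnQ⟩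
      have hzero := congrArg Subtype.val (congrFun hδ (⟨⟨Q, hQle, hcentric⟩, n, hnQ⟩ : Idx S))
      have h1 := (exists_pow (S := (S : Subgroup G)) S.isPGroup' hQle hcentric).choose_spec.2.2
        _ hd hzero
      rw [heq, h1, map_one, one_mul])
  obtain ⟨N, hN, hNodd, hcomm⟩ := Cfsg.Agent.S0215.result P v
    (orderOf_eq_prime (by rw [pow_two, hv2]) fun h => hvG (h ▸ one_mem _)) hvP hiso
  have hNG : N ≤ G₀ := fun x hx => by
    have h2 : x ^ Nat.card N = 1 := congrArg Subtype.val (pow_card_eq_one' (x := (⟨x, hx⟩ : N)))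
    rw [hG₀, SemidirectProduct.range_inl_eq_ker_rightHom, MonoidHom.mem_ker]
    have h3 : SemidirectProduct.rightHom x ^ Nat.card N = (1 : V) := by
      rw [← map_pow, h2, map_one]
    refine (hVel _).resolve_right fun h => hne (Subtype.ext ?_)
    obtain ⟨j, hj⟩ := hNodd
    rw [h, hj, pow_succ, pow_mul, pow_two, show c' * c' = 1 from Subtype.ext hcc, one_pow,
      one_mul] at h3
    exact congrArg (fun z : V => (z : MulAut G)) h3
  have hbot : N.comap (SemidirectProduct.inl : G →* G ⋊[V.subtype] V) = ⊥ := by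
    refine hO _ (hN.comap _) ?_
    rwa [← card_map_of_injective hinj, ← hback N hNG]
  refine hne (Subtype.ext (MulEquiv.ext fun g => ?_))
  have h1 := hcomm (SemidirectProduct.inl g)
  rw [hconj, mul_assoc (SemidirectProduct.inl _), mul_inv_cancel, mul_one, ← map_inv,
    ← map_mul] at h1
  have h2 : (c : MulAut G) g * g⁻¹ ∈ N.comap (SemidirectProduct.inl : G →* G ⋊[V.subtype] V) := h1
  rw [hbot, mem_bot, mul_inv_eq_one] at h2
  simpa using h2

theorem conclusion : (∀ T : Sylow 2 ↥C, (∀ a b : ↥T, a * b = b * a) ∧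
    ∃ N : Subgroup ↥C, N.Normal ∧ Subgroup.IsComplement' N (T : Subgroup ↥C)) ∧
      Group.IsSolvable ↥C := by
  classical
  haveI : Fact (Nat.Prime 2) := ⟨Nat.prime_two⟩
  set f := δ S C hC
  set K := f.ker with hK
  have hK2 : ¬ 2 ∣ Nat.card K := by
    intro h
    obtain ⟨x, hx⟩ := exists_prime_orderOf_dvd_card' 2 h
    have h1 : x * x = 1 := by rw [← pow_two, ← hx, pow_orderOf_eq_one]
    have := eq_one_of_involution S C hC hO (x : C) (congrArg Subtype.val h1) x.2
    rw [show x = 1 from Subtype.ext this, orderOf_one] at hx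
    exact absurd hx (by norm_num)
  have hKodd : Odd (Nat.card K) := by rwa [Nat.odd_iff, ← Nat.two_dvd_ne_zero]
  constructor
  · intro T'
    have htriv : ∀ t ∈ (T' : Subgroup C), f t = 1 → t = 1 := by
      intro t ht h
      obtain ⟨k, hk⟩ := T'.isPGroup' ⟨t, ht⟩
      have hk' : t ^ 2 ^ k = 1 := congrArg Subtype.val hk
      have hk2 : t ^ Nat.card K = 1 :=
        congrArg Subtype.val (pow_card_eq_one' (x := (⟨t, h⟩ : K)))
      have hco : Nat.Coprime (2 ^ k) (Nat.card K) :=
        ((Nat.prime_two.coprime_iff_not_dvd).mpr hK2).pow_left k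
      simpa [hco.gcd_eq_one] using pow_gcd_eq_one.mpr ⟨hk', hk2⟩
    refine ⟨fun a b => Subtype.ext ?_, ?_⟩
    · rw [← mul_inv_eq_one]
      refine htriv _ (mul_mem (a * b).2 (inv_mem (b * a).2)) ?_
      show f ((a : C) * (b : C) * ((b : C) * (a : C))⁻¹) = 1
      rw [map_mul, map_inv, map_mul, map_mul, mul_comm (f (b : C)) (f (a : C)), mul_inv_cancel]
    obtain ⟨a, ha⟩ := T'.isPGroup'.exists_card_eq
    set m := (T' : Subgroup C).index with hm
    have hmodd : ¬ 2 ∣ m := T'.not_dvd_index
    let g : C →* ((i : Idx S) → T (i.1 : Subgroup G)) := (powMonoidHom m).comp f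
    refine ⟨g.ker, inferInstance, ?_⟩
    have hcard : Nat.card C = 2 ^ a * m := by rw [← ha, hm, (T' : Subgroup C).card_mul_index]
    have hdisj : Disjoint g.ker (T' : Subgroup C) := by
      rw [disjoint_def]
      intro t ht1 ht2
      obtain ⟨k, hk⟩ := T'.isPGroup' ⟨t, ht2⟩
      have hk' : t ^ 2 ^ k = 1 := congrArg Subtype.val hk
      refine htriv t ht2 ?_
      have h1 : f t ^ m = 1 := ht1
      have h2 : f t ^ 2 ^ k = 1 := by rw [← map_pow, hk', map_one]
      have hco : Nat.Coprime (2 ^ k) m :=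
        ((Nat.prime_two.coprime_iff_not_dvd).mpr hmodd).pow_left k
      simpa [hco.gcd_eq_one] using pow_gcd_eq_one.mpr ⟨h2, h1⟩
    have hindex : ∃ b, g.ker.index = 2 ^ b := by
      have h : IsPGroup 2 g.range := by
        rintro ⟨_, x, rfl⟩
        refine ⟨a, Subtype.ext ?_⟩
        show ((f x) ^ m) ^ 2 ^ a = 1
        rw [← pow_mul, mul_comm, ← hcard, ← map_pow, pow_card_eq_one', map_one]
      haveI : Finite g.range := Finite.of_surjective _ g.rangeRestrict_surjective
      obtain ⟨b, hb⟩ := h.exists_card_eq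
      exact ⟨b, by rw [index_ker, hb]⟩
    obtain ⟨b, hb⟩ := hindex
    have hkerodd : ¬ 2 ∣ Nat.card g.ker := by
      intro h
      obtain ⟨x, hx⟩ := exists_prime_orderOf_dvd_card' 2 h
      obtain ⟨R, hR⟩ := ((IsPGroup.of_card (n := 1)
        (show Nat.card (zpowers (x : C)) = 2 ^ 1 by
          rw [Nat.card_zpowers, Subgroup.orderOf_coe, hx, pow_one]))).exists_le_sylow
      obtain ⟨u, hu⟩ := MulAction.exists_smul_eq C R T'
      have h1 : u * (x : C) * u⁻¹ ∈ (T' : Subgroup C) := by
        rw [← hu]; exact ⟨_, hR (mem_zpowers _), by simp⟩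
      have h2 : u * (x : C) * u⁻¹ ∈ g.ker := (inferInstance : g.ker.Normal).conj_mem _ x.2 u
      have h3 := disjoint_def.mp hdisj h2 h1
      rw [conj_eq_one_iff, ← orderOf_eq_one_iff, Subgroup.orderOf_coe, hx] at h3
      norm_num at h3
    have hab : b = a := by
      have h1 := g.ker.card_mul_index
      rw [hb, hcard] at h1
      have hd1 : 2 ^ b ∣ 2 ^ a := by
        refine (Nat.Coprime.dvd_of_dvd_mul_right ?_ (Dvd.intro_left _ h1))
        exact ((Nat.prime_two.coprime_iff_not_dvd).mpr hmodd).pow_left b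
      have hd2 : 2 ^ a ∣ 2 ^ b := by
        refine (Nat.Coprime.dvd_of_dvd_mul_left ?_ (Dvd.intro _ h1.symm))
        exact ((Nat.prime_two.coprime_iff_not_dvd).mpr hkerodd).pow_left a
      exact Nat.pow_right_injective le_rfl (Nat.dvd_antisymm hd1 hd2)
    refine Subgroup.isComplement'_of_card_mul_and_disjoint ?_ hdisj
    rw [show Nat.card (T' : Subgroup C) = 2 ^ a from ha, ← hab, ← hb, g.ker.card_mul_index]
  · haveI : Group.IsSolvable K := Cfsg.Agent.S0205.result hKodd
    exact Group.isSolvable_of_ker_le_range K.subtype f (by rw [range_subtype])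

end

end Cfsg.Agent.SylowFix.Solvable
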