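import Mathlib

/-!
# Conjugation orbits of subgroups containing Sylow subgroups

`N p Y` is the number of Sylow `p`-subgroups of `G` inside `Y`, `core p S` is generated by the
`p`-elements of `S`, and `W P s = (p-1)|s| - (2p-1)#{σ ∈ s | P ≤ σ}`.
-/

set_option autoImplicit false
set_option linter.unusedSectionVars false

open scoped Classical
open Subgroup

namespace Cfsg.Agent.SylowFix

variable {G : Type*} [Group G] {p : ℕ}

/-- conjugate subgroup `g S g⁻¹` -/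
def cj (g : G) (S : Subgroup G) : Subgroup G := S.comap (MulAut.conj g⁻¹).toMonoidHom

theorem mem_cj {g x : G} {S : Subgroup G} : x ∈ cj g S ↔ g⁻¹ * x * g ∈ S := by
  simp [cj]

@[simp] theorem cj_one (S : Subgroup G) : cj 1 S = S := by
  ext x; simp [mem_cj]

theorem cj_mul (g h : G) (S : Subgroup G) : cj (g * h) S = cj g (cj h S) := by
  ext x; simp [mem_cj, mul_assoc]

@[simp] theorem cj_inv_cj (g : G) (S : Subgroup G) : cj g⁻¹ (cj g S) = S := by
  rw [← cj_mul, inv_mul_cancel, cj_one]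

@[simp] theorem cj_cj_inv (g : G) (S : Subgroup G) : cj g (cj g⁻¹ S) = S := by
  rw [← cj_mul, mul_inv_cancel, cj_one]

theorem cj_mono (g : G) {S T : Subgroup G} (h : S ≤ T) : cj g S ≤ cj g T :=
  Subgroup.comap_mono h

theorem cj_le_cj {g : G} {S T : Subgroup G} : cj g S ≤ cj g T ↔ S ≤ T :=
  ⟨fun h => by simpa using cj_mono g⁻¹ h, cj_mono g⟩

theorem cj_le_iff {g : G} {S T : Subgroup G} : cj g S ≤ T ↔ S ≤ cj g⁻¹ T := by
  rw [← cj_le_cj (g := g⁻¹), cj_inv_cj]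

theorem le_cj_iff {g : G} {S T : Subgroup G} : T ≤ cj g S ↔ cj g⁻¹ T ≤ S := by
  rw [← cj_le_cj (g := g⁻¹), cj_inv_cj]

theorem cj_injective (g : G) : Function.Injective (cj g) := fun S T h => by
  simpa using congrArg (cj g⁻¹) h

theorem cj_inf (g : G) (S T : Subgroup G) : cj g (S ⊓ T) = cj g S ⊓ cj g T :=
  Subgroup.comap_inf _ _ _

@[simp] theorem cj_top (g : G) : cj g (⊤ : Subgroup G) = ⊤ :=
  Subgroup.comap_top _

theorem cj_eq_self {g : G} {S : Subgroup G} (h : g ∈ S) : cj g S = S := by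
  ext x
  rw [mem_cj]
  constructor
  · intro hx
    have := S.mul_mem (S.mul_mem h hx) (S.inv_mem h)
    simpa [mul_assoc] using this
  · intro hx
    exact S.mul_mem (S.mul_mem (S.inv_mem h) hx) h

theorem conj_mem_cj {g x : G} {S : Subgroup G} (h : x ∈ S) : g * x * g⁻¹ ∈ cj g S := by
  rw [mem_cj]; simpa [mul_assoc] using h

theorem cj_eq_map (g : G) (S : Subgroup G) : cj g S = S.map (MulAut.conj g).toMonoidHom := by
  ext x
  rw [mem_cj, Subgroup.mem_map]
  constructor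
  · exact fun h => ⟨_, h, by simp [mul_assoc]⟩
  · rintro ⟨y, hy, rfl⟩
    simpa [mul_assoc] using hy

theorem card_cj (g : G) (S : Subgroup G) : Nat.card ↥(cj g S) = Nat.card S := by
  rw [cj_eq_map]
  exact Subgroup.card_map_of_injective (MulAut.conj g).injective

/-- generated by the `p`-elements -/
def core (p : ℕ) (S : Subgroup G) : Subgroup G :=
  Subgroup.closure {x | x ∈ S ∧ ∃ k : ℕ, x ^ p ^ k = 1}

/-- generated by its `p`-elements -/
def PG (p : ℕ) (S : Subgroup G) : Prop := core p S = S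

theorem core_le (S : Subgroup G) : core p S ≤ S := by
  rw [core, Subgroup.closure_le]
  exact fun x hx => hx.1

theorem mem_core {S : Subgroup G} {x : G} (hx : x ∈ S) {k : ℕ} (hk : x ^ p ^ k = 1) :
    x ∈ core p S :=
  Subgroup.subset_closure ⟨hx, k, hk⟩

theorem core_mono {S T : Subgroup G} (h : S ≤ T) : core p S ≤ core p T :=
  Subgroup.closure_mono fun _ hx => ⟨h hx.1, hx.2⟩

theorem pg_core (S : Subgroup G) : PG p (core p S) := by
  refine le_antisymm (core_le _) (Subgroup.closure_mono ?_)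
  exact fun x hx => ⟨Subgroup.subset_closure hx, hx.2⟩

theorem PG.le_core_iff {K S : Subgroup G} (hK : PG p K) : K ≤ core p S ↔ K ≤ S :=
  ⟨fun h => h.trans (core_le S), fun h => by rw [← hK]; exact core_mono h⟩

theorem cj_core (g : G) (S : Subgroup G) : cj g (core p S) = core p (cj g S) := by
  have key : ∀ (g : G) (S : Subgroup G), core p (cj g S) ≤ cj g (core p S) := by
    intro g S
    rw [core, Subgroup.closure_le]
    rintro x ⟨hx, k, hk⟩
    rw [SetLike.mem_coe, mem_cj]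
    refine mem_core (mem_cj.1 hx) (k := k) ?_
    rw [show g⁻¹ * x * g = g⁻¹ * x * g⁻¹⁻¹ by rw [inv_inv], conj_pow, hk]
    simp
  refine le_antisymm ?_ (key g S)
  rw [cj_le_iff]
  simpa using key g⁻¹ (cj g S)

theorem PG.cj {S : Subgroup G} (h : PG p S) (g : G) : PG p (cj g S) := by
  rw [PG, ← cj_core, h]

theorem pg_of_isPGroup {K : Subgroup G} (h : IsPGroup p K) : PG p K := by
  refine le_antisymm (core_le _) fun x hx => ?_
  obtain ⟨k, hk⟩ := h ⟨x, hx⟩
  exact mem_core hx (k := k) (by simpa [Subtype.ext_iff] using hk)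

theorem pg_sylow (P : Sylow p G) : PG p (P : Subgroup G) :=
  pg_of_isPGroup P.isPGroup'

theorem coe_smul_sylow (g : G) (Q : Sylow p G) :
    ((g • Q : Sylow p G) : Subgroup G) = cj g (Q : Subgroup G) := by
  rw [cj_eq_map]
  rfl

/-- `S` contains a Sylow subgroup of the ambient group -/
def HasSylow (p : ℕ) (S : Subgroup G) : Prop := ∃ Q : Sylow p G, (Q : Subgroup G) ≤ S

theorem HasSylow.mono {S T : Subgroup G} (h : HasSylow p S) (hST : S ≤ T) : HasSylow p T :=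
  let ⟨Q, hQ⟩ := h; ⟨Q, hQ.trans hST⟩

theorem HasSylow.cj {S : Subgroup G} (h : HasSylow p S) (g : G) : HasSylow p (cj g S) :=
  let ⟨Q, hQ⟩ := h; ⟨g • Q, by rw [coe_smul_sylow]; exact cj_mono g hQ⟩

variable [Finite G]

theorem eq_of_le_of_card_le {S T : Subgroup G} (h : S ≤ T) (hc : Nat.card T ≤ Nat.card S) :
    S = T :=
  Subgroup.eq_of_le_of_card_ge h hc

theorem eq_of_le_cj {S : Subgroup G} {g : G} (h : S ≤ cj g S) : cj g S = S :=
  (eq_of_le_of_card_le h (card_cj g S).le).symm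

variable [Fact p.Prime]

/-- A `p`-element normalising a subgroup that contains a Sylow subgroup lies in it. -/
theorem mem_of_cj_eq {S : Subgroup G} (hS : HasSylow p S) {x : G} {k : ℕ} (hk : x ^ p ^ k = 1)
    (hx : cj x S = S) : x ∈ S := by
  obtain ⟨Q, hQ⟩ := hS
  have hxN : x ∈ Subgroup.normalizer (S : Set G) := by
    rw [Subgroup.mem_normalizer_iff'']
    intro h
    conv_lhs => rw [← hx]
    exact mem_cj
  let N := Subgroup.normalizer (S : Set G)
  have hSN : S ≤ N := Subgroup.le_normalizer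
  have : (S.subgroupOf N).Normal := Subgroup.normal_in_normalizer
  let q : ↥N ⧸ S.subgroupOf N := QuotientGroup.mk' _ ⟨x, hxN⟩
  have h1 : orderOf q ∣ p ^ k := by
    apply orderOf_dvd_of_pow_eq_one
    rw [← map_pow, show (⟨x, hxN⟩ : ↥N) ^ p ^ k = 1 from Subtype.ext (by simpa using hk), map_one]
  have h2 : orderOf q ∣ S.relIndex N := orderOf_dvd_natCard q
  have h3 : ¬ p ∣ S.relIndex N := fun h =>
    Q.not_dvd_index (h.trans ((Dvd.intro _ (Subgroup.relIndex_mul_index hSN)).trans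
      (Subgroup.index_dvd_of_le hQ)))
  obtain ⟨j, -, hj⟩ := (Nat.dvd_prime_pow (Fact.out : p.Prime)).1 h1
  rcases j with _ | j
  · have : q = 1 := orderOf_eq_one_iff.1 (by simpa using hj)
    exact Subgroup.mem_subgroupOf.1 ((QuotientGroup.eq_one_iff _).1 this)
  · exact absurd ((Dvd.intro_left (p ^ j) (pow_succ p j).symm).trans (hj ▸ h2)) h3

/-- A group generated by `p`-elements normalising `S` lies in `S`. -/
theorem le_of_cj_eq {S Y : Subgroup G} (hS : HasSylow p S) (hY : PG p Y)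
    (h : ∀ y ∈ Y, cj y S = S) : Y ≤ S := by
  rw [← hY, core, Subgroup.closure_le]
  rintro x ⟨hx, k, hk⟩
  exact mem_of_cj_eq hS hk (h x hx)

/-! ### Sylow counts -/

/-- number of Sylow subgroups of `G` inside `Y` -/
noncomputable def N (p : ℕ) (Y : Subgroup G) : ℕ := Nat.card {Q : Sylow p G // (Q : Subgroup G) ≤ Y}

theorem N_mono {S T : Subgroup G} (h : S ≤ T) : N p S ≤ N p T :=
  Nat.card_le_card_of_injective (fun Q => ⟨Q.1, Q.2.trans h⟩)
    fun _ _ hab => Subtype.ext (congrArg (fun Q => Q.1) hab :)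

theorem N_pos {S : Subgroup G} (h : HasSylow p S) : 0 < N p S := by
  obtain ⟨Q, hQ⟩ := h
  have : Nonempty {Q : Sylow p G // (Q : Subgroup G) ≤ S} := ⟨⟨Q, hQ⟩⟩
  exact Nat.card_pos

theorem hasSylow_of_N_pos {S : Subgroup G} (h : 0 < N p S) : HasSylow p S := by
  obtain ⟨⟨⟨Q, hQ⟩⟩, -⟩ := Nat.card_pos_iff.1 h
  exact ⟨Q, hQ⟩

theorem N_core (S : Subgroup G) : N p (core p S) = N p S :=
  Nat.card_congr (Equiv.subtypeEquivRight fun Q => (pg_sylow Q).le_core_iff)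

theorem N_cj (g : G) (S : Subgroup G) : N p (cj g S) = N p S := by
  refine (Nat.card_congr (Equiv.subtypeEquiv (MulAction.toPerm (g : G)) fun Q => ?_)).symm
  rw [MulAction.toPerm_apply, coe_smul_sylow, cj_le_cj]

theorem exists_cj_sylow {Y : Subgroup G} {Q R : Sylow p G} (hQ : (Q : Subgroup G) ≤ Y)
    (hR : (R : Subgroup G) ≤ Y) : ∃ y ∈ Y, cj y (Q : Subgroup G) = R := by
  obtain ⟨y, hy⟩ := MulAction.exists_smul_eq Y (Q.subtype hQ) (R.subtype hR)
  rw [Sylow.smul_subtype] at hy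
  refine ⟨y, y.2, ?_⟩
  rw [← Sylow.subtype_injective hy, ← coe_smul_sylow]
  rfl

theorem exists_sylow_eq_subtype {Y : Subgroup G} (hY : HasSylow p Y) (R : Sylow p Y) :
    ∃ (Q : Sylow p G) (h : (Q : Subgroup G) ≤ Y), Q.subtype h = R := by
  obtain ⟨Q, hQ⟩ := hY
  obtain ⟨y, hy⟩ := MulAction.exists_smul_eq Y (Q.subtype hQ) R
  rw [Sylow.smul_subtype] at hy
  exact ⟨_, _, hy⟩

theorem card_sylow_eq_N {Y : Subgroup G} (hY : HasSylow p Y) :
    Nat.card (Sylow p Y) = N p Y := by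
  refine (Nat.card_congr (Equiv.ofBijective (fun Q : {Q : Sylow p G // (Q : Subgroup G) ≤ Y} =>
    Q.1.subtype Q.2) ⟨fun a b h => Subtype.ext (Sylow.subtype_injective h), fun R => ?_⟩)).symm
  obtain ⟨Q, hQ, h⟩ := exists_sylow_eq_subtype hY R
  exact ⟨⟨Q, hQ⟩, h⟩

theorem exists_sylow_mem {Y : Subgroup G} (hY : HasSylow p Y) {x : G} (hx : x ∈ Y) {k : ℕ}
    (hk : x ^ p ^ k = 1) : ∃ Q : Sylow p G, (Q : Subgroup G) ≤ Y ∧ x ∈ (Q : Subgroup G) := by
  have hp : IsPGroup p (Subgroup.zpowers (⟨x, hx⟩ : Y)) := by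
    rintro ⟨z, n, rfl⟩
    refine ⟨k, Subtype.ext (Subtype.ext ?_)⟩
    have e : ((x ^ n) ^ p ^ k : G) = 1 := by
      rw [← zpow_natCast, ← zpow_mul, mul_comm, zpow_mul, zpow_natCast, hk, one_zpow]
    simpa using e
  obtain ⟨R, hR⟩ := hp.exists_le_sylow
  obtain ⟨Q, hQ, rfl⟩ := exists_sylow_eq_subtype hY R
  exact ⟨Q, hQ, Subgroup.mem_subgroupOf.1 (by
    simpa [Sylow.coe_subtype] using hR (Subgroup.mem_zpowers _))⟩

theorem eq_of_N_le {K Y : Subgroup G} (hY : PG p Y) (hS : HasSylow p Y) (hKY : K ≤ Y)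
    (h : N p Y ≤ N p K) : K = Y := by
  refine le_antisymm hKY ?_
  rw [← hY, core, Subgroup.closure_le]
  rintro x ⟨hx, k, hk⟩
  obtain ⟨Q, hQ, hxQ⟩ := exists_sylow_mem hS hx hk
  let f : {Q : Sylow p G // (Q : Subgroup G) ≤ K} → {Q : Sylow p G // (Q : Subgroup G) ≤ Y} :=
    fun Q => ⟨Q.1, Q.2.trans hKY⟩
  have hf : Function.Injective f := fun a b hab => Subtype.ext (congrArg (fun Q => Q.1) hab :)
  obtain ⟨⟨Q', hQ'⟩, hQQ⟩ := (hf.bijective_of_nat_card_le h).2 ⟨Q, hQ⟩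
  have e : Q' = Q := congrArg (fun Q => Q.1) hQQ
  exact (e ▸ hQ') hxQ

/-! ### Invariant sets, weights -/

/-- orbit of `σ` under conjugation by `Y` -/
noncomputable def orb (Y σ : Subgroup G) : Finset (Subgroup G) :=
  (Set.toFinite {τ : Subgroup G | ∃ y ∈ Y, cj y σ = τ}).toFinset

theorem mem_orb {Y σ τ : Subgroup G} : τ ∈ orb Y σ ↔ ∃ y ∈ Y, cj y σ = τ := by simp [orb]

theorem self_mem_orb (Y σ : Subgroup G) : σ ∈ orb Y σ :=
  mem_orb.2 ⟨1, Y.one_mem, cj_one σ⟩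

/-- `s` is invariant under conjugation by `Y` -/
def Inv (Y : Subgroup G) (s : Finset (Subgroup G)) : Prop := ∀ y ∈ Y, ∀ σ ∈ s, cj y σ ∈ s

theorem inv_orb (Y σ : Subgroup G) : Inv Y (orb Y σ) := by
  intro y hy τ hτ
  obtain ⟨z, hz, rfl⟩ := mem_orb.1 hτ
  exact mem_orb.2 ⟨y * z, Y.mul_mem hy hz, cj_mul _ _ _⟩

theorem orb_eq_of_mem {Y σ τ : Subgroup G} (h : τ ∈ orb Y σ) : orb Y τ = orb Y σ := by
  obtain ⟨z, hz, rfl⟩ := mem_orb.1 h
  ext ρ
  constructor <;> intro hρ <;> obtain ⟨w, hw, rfl⟩ := mem_orb.1 hρ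
  · exact mem_orb.2 ⟨w * z, Y.mul_mem hw hz, cj_mul _ _ _⟩
  · exact mem_orb.2 ⟨w * z⁻¹, Y.mul_mem hw (Y.inv_mem hz), by simp [cj_mul]⟩

theorem orb_subset {Y σ : Subgroup G} {s : Finset (Subgroup G)} (hs : Inv Y s) (hσ : σ ∈ s) :
    orb Y σ ⊆ s := fun τ hτ => by
  obtain ⟨z, hz, rfl⟩ := mem_orb.1 hτ
  exact hs z hz σ hσ

theorem Inv.mono {Y K : Subgroup G} {s : Finset (Subgroup G)} (h : Inv Y s) (hK : K ≤ Y) :
    Inv K s := fun y hy => h y (hK hy)

theorem Inv.sdiff {Y : Subgroup G} {s t : Finset (Subgroup G)} (hs : Inv Y s) (ht : Inv Y t) :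
    Inv Y (s \ t) := fun y hy σ hσ => by
  rw [Finset.mem_sdiff] at hσ ⊢
  exact ⟨hs y hy σ hσ.1, fun h => hσ.2 (by simpa using ht y⁻¹ (Y.inv_mem hy) _ h)⟩

theorem Inv.filter {Y : Subgroup G} {s : Finset (Subgroup G)} (hs : Inv Y s)
    {q : Subgroup G → Prop} [DecidablePred q] (hq : ∀ y ∈ Y, ∀ σ, q σ → q (cj y σ)) : Inv Y (s.filter q) :=
  fun y hy σ hσ => by
    rw [Finset.mem_filter] at hσ ⊢
    exact ⟨hs y hy σ hσ.1, hq y hy σ hσ.2⟩

theorem inv_singleton {Y σ : Subgroup G} (h : Y ≤ σ) : Inv Y {σ} := fun y hy τ hτ => by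
  rw [Finset.mem_singleton] at hτ ⊢
  rw [hτ, cj_eq_self (h hy)]

/-- all members contain Sylow subgroups -/
def AllSylow (p : ℕ) (s : Finset (Subgroup G)) : Prop := ∀ σ ∈ s, HasSylow p σ

theorem allSylow_orb {Y σ : Subgroup G} (h : HasSylow p σ) : AllSylow p (orb Y σ) := fun τ hτ => by
  obtain ⟨y, -, rfl⟩ := mem_orb.1 hτ
  exact h.cj y

variable (P : Sylow p G)

/-- weight of one subgroup -/
noncomputable def wt (σ : Subgroup G) : ℤ :=
  ((p : ℤ) - 1) - (2 * p - 1) * (if (P : Subgroup G) ≤ σ then 1 else 0)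

/-- weight of a set of subgroups -/
noncomputable def W (s : Finset (Subgroup G)) : ℤ := ∑ σ ∈ s, wt P σ

theorem W_eq (s : Finset (Subgroup G)) :
    W P s = ((p : ℤ) - 1) * s.card - (2 * p - 1) * (s.filter fun σ => (P : Subgroup G) ≤ σ).card := by
  simp only [W, wt, Finset.sum_sub_distrib, ← Finset.mul_sum, Finset.sum_boole]
  simp; ring

theorem W_singleton {σ : Subgroup G} (h : (P : Subgroup G) ≤ σ) : W P {σ} = -p := by
  simp [W, wt, h]; ring

theorem W_sdiff {s t : Finset (Subgroup G)} (h : t ⊆ s) : W P (s \ t) = W P s - W P t := by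
  simp [W, Finset.sum_sdiff_eq_sub h]

theorem W_all {s : Finset (Subgroup G)} (h : ∀ σ ∈ s, (P : Subgroup G) ≤ σ) :
    W P s = -p * s.card := by
  rw [W_eq, Finset.filter_true_of_mem h]; ring

theorem W_free {s : Finset (Subgroup G)} (h : ∀ σ ∈ s, ¬ (P : Subgroup G) ≤ σ) :
    W P s = ((p : ℤ) - 1) * s.card := by
  rw [W_eq, Finset.filter_false_of_mem h]; simp

theorem W_union {s t : Finset (Subgroup G)} (h : Disjoint s t) :
    W P (s ∪ t) = W P s + W P t := by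
  simp [W, Finset.sum_union h]

/-- double counting -/
theorem sum_N_inf {Y : Subgroup G} (hP : (P : Subgroup G) ≤ Y) {T : Finset (Subgroup G)}
    (hT : Inv Y T) :
    ∑ τ ∈ T, N p (Y ⊓ τ) = N p Y * (T.filter fun σ => (P : Subgroup G) ≤ σ).card := by
  have := Fintype.ofFinite (Sylow p G)
  let S : Finset (Sylow p G) := Finset.univ.filter fun Q : Sylow p G => (Q : Subgroup G) ≤ Y
  have hS : S.card = N p Y := by
    rw [N, Nat.card_eq_fintype_card, Fintype.card_subtype]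
  let r : Subgroup G → Sylow p G → Prop := fun τ Q => (Q : Subgroup G) ≤ τ
  have h1 : ∀ τ, (S.bipartiteAbove r τ).card = N p (Y ⊓ τ) := by
    intro τ
    rw [N, Nat.card_eq_fintype_card, Fintype.card_subtype]
    congr 1
    ext Q
    simp [S, r, Finset.bipartiteAbove]
  have h2 : ∀ Q ∈ S, (T.bipartiteBelow r Q).card =
      (T.filter fun σ => (P : Subgroup G) ≤ σ).card := by
    intro Q hQ
    obtain ⟨y, hy, hyQ⟩ := exists_cj_sylow hP (Finset.mem_filter.1 hQ).2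
    refine Finset.card_bij' (fun σ _ => cj y⁻¹ σ) (fun σ _ => cj y σ) ?_ ?_ ?_ ?_
    · intro σ hσ
      simp only [Finset.bipartiteBelow, Finset.mem_filter, r] at hσ ⊢
      exact ⟨hT _ (Y.inv_mem hy) _ hσ.1, by rw [le_cj_iff, inv_inv, hyQ]; exact hσ.2⟩
    · intro σ hσ
      simp only [Finset.bipartiteBelow, Finset.mem_filter, r] at hσ ⊢
      exact ⟨hT _ hy _ hσ.1, by rw [← hyQ]; exact cj_mono y hσ.2⟩
    · intro σ _; simp
    · intro σ _; simp
  calc ∑ τ ∈ T, N p (Y ⊓ τ) = ∑ τ ∈ T, (S.bipartiteAbove r τ).card := by simp [h1]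
    _ = ∑ Q ∈ S, (T.bipartiteBelow r Q).card :=
        Finset.sum_card_bipartiteAbove_eq_sum_card_bipartiteBelow r
    _ = _ := by rw [Finset.sum_congr rfl h2, Finset.sum_const, smul_eq_mul, hS]

/-- `D p Y τ = (p-1) N Y - (2p-1) N (Y ⊓ τ)` -/
noncomputable def D (p : ℕ) (Y τ : Subgroup G) : ℤ :=
  ((p : ℤ) - 1) * N p Y - (2 * p - 1) * N p (Y ⊓ τ)

theorem N_mul_W {Y : Subgroup G} (hP : (P : Subgroup G) ≤ Y) {T : Finset (Subgroup G)}
    (hT : Inv Y T) : (N p Y : ℤ) * W P T = ∑ τ ∈ T, D p Y τ := by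
  have h : (∑ τ ∈ T, (N p (Y ⊓ τ) : ℤ)) =
      (N p Y : ℤ) * ((T.filter fun σ => (P : Subgroup G) ≤ σ).card : ℤ) := by
    exact_mod_cast sum_N_inf P hP hT
  simp only [D, Finset.sum_sub_distrib, ← Finset.mul_sum, Finset.sum_const, nsmul_eq_mul, h, W_eq]
  ring

theorem D_cj {Y τ : Subgroup G} {y : G} (hy : y ∈ Y) : D p Y (cj y τ) = D p Y τ := by
  have : Y ⊓ cj y τ = cj y (Y ⊓ τ) := by rw [cj_inf, cj_eq_self hy]
  rw [D, D, this, N_cj]

theorem N_mul_W_orb {Y : Subgroup G} (hP : (P : Subgroup G) ≤ Y) (σ : Subgroup G) :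
    (N p Y : ℤ) * W P (orb Y σ) = (orb Y σ).card * D p Y σ := by
  rw [N_mul_W P hP (inv_orb Y σ), Finset.sum_congr rfl (g := fun _ => D p Y σ),
    Finset.sum_const, nsmul_eq_mul]
  intro τ hτ
  obtain ⟨y, hy, rfl⟩ := mem_orb.1 hτ
  exact D_cj hy

/-- the congruence -/
theorem dvd_W {K : Subgroup G} (hP : (P : Subgroup G) ≤ K) {s : Finset (Subgroup G)}
    (hs : Inv K s) (hall : AllSylow p s) : (p : ℤ) ∣ W P s := by
  let _ : MulAction ↥(P : Subgroup G) {σ // σ ∈ s} :=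
    { smul := fun y σ => ⟨cj (y : G) σ.1, hs _ (hP y.2) _ σ.2⟩
      one_smul := fun σ => Subtype.ext (cj_one _)
      mul_smul := fun a b σ => Subtype.ext (cj_mul _ _ _) }
  have hfix : Nat.card (MulAction.fixedPoints ↥(P : Subgroup G) {σ // σ ∈ s}) =
      (s.filter fun σ => (P : Subgroup G) ≤ σ).card := by
    rw [← Nat.card_eq_finsetCard]
    refine Nat.card_congr
      { toFun := fun σ => ⟨σ.1.1, Finset.mem_filter.2 ⟨σ.1.2, ?_⟩⟩
        invFun := fun σ => ⟨⟨σ.1, (Finset.mem_filter.1 σ.2).1⟩, ?_⟩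
        left_inv := fun σ => rfl
        right_inv := fun σ => rfl }
    · exact le_of_cj_eq (hall _ σ.1.2) (pg_sylow P)
        fun y hy => congrArg (fun τ => τ.1) (σ.2 ⟨y, hy⟩)
    · exact fun y => Subtype.ext (cj_eq_self ((Finset.mem_filter.1 σ.2).2 y.2))
  have h := P.isPGroup'.card_modEq_card_fixedPoints {σ // σ ∈ s}
  rw [hfix, Nat.card_eq_finsetCard] at h
  obtain ⟨c, hc⟩ := Nat.modEq_iff_dvd.1 h
  rw [W_eq]
  refine ⟨(s.card : ℤ) - 2 * (s.filter fun σ => (P : Subgroup G) ≤ σ).card + c, ?_⟩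
  linear_combination hc

theorem two_le_p : (2 : ℤ) ≤ p := by exact_mod_cast (Fact.out : p.Prime).two_le

theorem W_free_ge {K : Subgroup G} (hP : (P : Subgroup G) ≤ K) {s : Finset (Subgroup G)}
    (hs : Inv K s) (hall : AllSylow p s) (hne : s.Nonempty)
    (h : ∀ σ ∈ s, ¬ (P : Subgroup G) ≤ σ) : (p : ℤ) * (p - 1) ≤ W P s := by
  have hd := dvd_W P hP hs hall
  rw [W_free P h] at hd ⊢
  obtain ⟨c, hc⟩ := hd
  have h2 := two_le_p (p := p)
  have hpos : (1 : ℤ) ≤ s.card := by exact_mod_cast hne.card_pos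
  have hd' : (p : ℤ) ∣ s.card := ⟨(s.card : ℤ) - c, by linear_combination -hc⟩
  have := Int.le_of_dvd (by omega) hd'
  nlinarith

end Cfsg.Agent.SylowFix
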