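import Cfsg.Agent.Lib.SylowFix.Small

/-!
# No counterexample for primes above 3

`X` is chosen largest among the subgroups with an orbit of weight at least `p(p-1)`. Above `X` every
node `Y` has weight at most `p(p-2)`; the set `Phi r X Y` of its members over `X` then behaves like the
points of a simplex, and its transpositions are induced by elements normalising `X`.
-/

set_option autoImplicit false
set_option linter.unusedSectionVars false

open scoped Classical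
open Subgroup

namespace Cfsg.Agent.SylowFix

variable {G : Type*} [Group G] [Finite G] {p : ℕ} [Fact p.Prime] {P : Sylow p G}

theorem Mx.cj {Q Y : Subgroup G} (h : Mx p Q Y) {y : G} (hy : y ∈ Y) : Mx p (cj y Q) Y := by
  have hY : SylowFix.cj y Y = Y := cj_eq_self hy
  refine ⟨h.pg.cj y, ?_, fun K hK h1 h2 => ?_⟩
  · refine lt_of_le_of_ne (hY ▸ cj_mono y h.lt.le) fun e => h.lt.ne (cj_injective y ?_)
    rw [e, hY]
  · have hlt : SylowFix.cj y⁻¹ K < Y := by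
      have hY' : SylowFix.cj y⁻¹ Y = Y := cj_eq_self (Y.inv_mem hy)
      refine lt_of_le_of_ne (hY' ▸ cj_mono y⁻¹ h2.le) fun e => h2.ne (cj_injective y⁻¹ ?_)
      rw [e, hY']
    have := h.eq_of_le _ (hK.cj y⁻¹) (le_cj_iff.2 (by rwa [inv_inv])) hlt
    rw [← this, cj_cj_inv]

theorem core_inf_core {K Y τ : Subgroup G} (hKY : K ≤ Y) :
    core p (K ⊓ core p (Y ⊓ τ)) = core p (K ⊓ τ) := by
  refine le_antisymm (core_mono (inf_le_inf_left _ (core_inf_le_right Y τ))) ?_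
  rw [le_core_inf_iff (pg_core _), le_core_inf_iff (pg_core _)]
  exact ⟨core_inf_le_left K τ, (core_inf_le_left K τ).trans hKY, core_inf_le_right K τ⟩

theorem cj_core_inf (g : G) (A B : Subgroup G) :
    cj g (core p (A ⊓ B)) = core p (cj g A ⊓ cj g B) := by
  rw [cj_core, cj_inf]

/-- `X` has an orbit of large weight, seen from `r` -/
def Big (P : Sylow p G) (X r : Subgroup G) : Prop :=
  ¬ X ≤ r ∧ ((∀ x ∈ X, ¬ (P : Subgroup G) ≤ cj x r) ∨
    (p : ℤ) * (p - 1) ≤ W P (orb X (core p (X ⊓ r))))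

/-- a largest big subgroup in a counterexample -/
structure Setup (P : Sylow p G) (H X r : Subgroup G) : Prop where
  ctx : Ctx p P H
  four : 4 ≤ p
  hr : r ∈ orb ⊤ H
  pg : PG p X
  hP : (P : Subgroup G) ≤ X
  ne : X ≠ ⊤
  big : Big P X r
  max : ∀ Y : Subgroup G, PG p Y → Y ≠ ⊤ → X < Y → ¬ Big P Y r

/-- members of a node -/
noncomputable def Sig (p : ℕ) (r Y : Subgroup G) : Finset (Subgroup G) := orb Y (core p (Y ⊓ r))

/-- members over `X` -/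
noncomputable def Phi (p : ℕ) (r X Y : Subgroup G) : Finset (Subgroup G) :=
  (Sig p r Y).filter fun σ => X ≤ σ

/-- minimal over `X` -/
structure Atom (p : ℕ) (X Z : Subgroup G) : Prop where
  pg : PG p Z
  lt : X < Z
  eq_of_le : ∀ K : Subgroup G, PG p K → X < K → K ≤ Z → K = Z

theorem exists_atom {X Y : Subgroup G} (hY : PG p Y) (hlt : X < Y) :
    ∃ Z, Atom p X Z ∧ Z ≤ Y := by
  obtain ⟨Z, hZY, hZ⟩ := (Set.toFinite {K : Subgroup G | PG p K ∧ X < K}).exists_le_minimal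
    (show Y ∈ {K : Subgroup G | PG p K ∧ X < K} from ⟨hY, hlt⟩)
  exact ⟨Z, ⟨hZ.prop.1, hZ.prop.2, fun K hK h1 h2 => le_antisymm h2 (hZ.2 ⟨hK, h1⟩ h2)⟩, hZY⟩

/-- the inductive statement for a node -/
structure J (p : ℕ) (r X Y : Subgroup G) : Prop where
  maxmem : ∀ Q, Mx p Q Y → X ≤ Q → Q ∈ Phi p r X Y
  one : ∀ Z, Atom p X Z → Z ≤ Y →
    ∃ K ∈ Phi p r X Y, ¬ Z ≤ K ∧ ∀ L ∈ Phi p r X Y, ¬ Z ≤ L → L = K
  miss : ∀ K ∈ Phi p r X Y, ∃ Z, Atom p X Z ∧ Z ≤ Y ∧ ¬ Z ≤ K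
  single : (Phi p r X Y).card = 1 → X ∈ Phi p r X Y
  swap : ∀ K ∈ Phi p r X Y, ∀ K' ∈ Phi p r X Y, K ≠ K' → ∃ g ∈ Y, cj g X = X ∧ cj g K = K' ∧
    cj g K' = K ∧ ∀ L ∈ Phi p r X Y, L ≠ K → L ≠ K' → cj g L = L

namespace Setup

variable {H X r Y : Subgroup G} (h : Setup P H X r)
include h

theorem ttX : TT p X := h.ctx.below X h.pg h.ne

theorem four' : (4 : ℤ) ≤ p := by exact_mod_cast h.four

theorem not_le_r (hXY : X ≤ Y) : ¬ Y ≤ r := fun e => h.big.1 (hXY.trans e)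

theorem sig_spec (hY : PG p Y) (hXY : X < Y) :
    (∀ σ ∈ Sig p r Y, HasSylow p σ ∧ Mx p σ Y) ∧
      W P (Sig p r Y) ≤ (p : ℤ) * (p - 2) := by
  have hp := h.four'
  by_cases hYt : Y = ⊤
  · subst hYt
    have e : Sig p r ⊤ = orb ⊤ H := by
      rw [Sig, top_inf_eq, h.ctx.pg_of_mem h.hr, orb_eq_of_mem h.hr]
    rw [e]
    refine ⟨fun σ hσ => ⟨h.ctx.hasSylow_of_mem hσ, ?_⟩, ?_⟩
    · obtain ⟨R, hR⟩ := h.ctx.hasSylow_of_mem hσ
      exact (h.ctx.change hσ hR).mx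
    · rw [h.ctx.W_orbit]; nlinarith
  · have hnb := h.max Y hY hYt hXY
    simp only [Big, not_and, not_or, not_forall, not_not, not_le] at hnb
    obtain ⟨⟨y, hy, hPy⟩, hW⟩ := hnb (h.not_le_r hXY.le)
    have hV : core p (Y ⊓ cj y r) = cj y (core p (Y ⊓ r)) := core_inf_cj hy
    have hmem : cj y (core p (Y ⊓ r)) ∈ Sig p r Y := mem_orb.2 ⟨y, hy, rfl⟩
    have hPV : (P : Subgroup G) ≤ cj y (core p (Y ⊓ r)) := hV ▸
      (le_core_inf_iff (pg_sylow P)).2 ⟨h.hP.trans hXY.le, hPy⟩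
    have hW' : W P (Sig p r Y) ≤ (p : ℤ) * (p - 2) := by
      obtain ⟨c, hc⟩ := dvd_W P (h.hP.trans hXY.le) (inv_orb Y (core p (Y ⊓ r)))
        (fun σ hσ => allSylow_orb ⟨P, hPV⟩ σ (by rwa [orb_eq_of_mem hmem]))
      rw [hc] at hW
      rw [Sig, hc]
      have : c ≤ (p : ℤ) - 2 := by
        have : c < (p : ℤ) - 1 := by nlinarith
        omega
      nlinarith
    have hlt : cj y (core p (Y ⊓ r)) < Y := by
      rw [← hV]
      exact core_inf_lt fun e => h.not_le_r hXY.le (cj_le_cj.1 (by rwa [cj_eq_self hy]))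
    have hmx : Mx p (cj y (core p (Y ⊓ r))) Y := mx_of_W_le P h.ctx.below hY hYt
      ((pg_core _).cj y) hPV hlt (by
        rw [orb_eq_of_mem hmem]
        calc W P (orb Y (core p (Y ⊓ r))) ≤ (p : ℤ) * (p - 2) := hW'
          _ ≤ _ := by nlinarith)
    refine ⟨fun σ hσ => ?_, hW'⟩
    rw [Sig, ← orb_eq_of_mem hmem] at hσ
    refine ⟨allSylow_orb ⟨P, hPV⟩ σ hσ, ?_⟩
    obtain ⟨z, hz, rfl⟩ := mem_orb.1 hσ
    exact hmx.cj hz

theorem phi_spec (hY : PG p Y) (hXY : X < Y) {K : Subgroup G} (hK : K ∈ Phi p r X Y) :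
    Mx p K Y ∧ X ≤ K ∧ K ∈ Sig p r Y ∧ K ≠ ⊤ := by
  obtain ⟨hK1, hK2⟩ := Finset.mem_filter.1 hK
  have hmx := ((h.sig_spec hY hXY).1 K hK1).2
  exact ⟨hmx, hK2, hK1, ne_top_of_lt_of_le hmx.lt le_rfl⟩

theorem le_W (hY : PG p Y) (hXY : X < Y) :
    (p : ℤ) * (p - 1) ≤ W P (Sig p r Y) + p * (Phi p r X Y).card := by
  have hsub : Phi p r X Y ⊆ Sig p r Y := Finset.filter_subset _ _
  have hW : W P (Sig p r Y \ Phi p r X Y) = W P (Sig p r Y) + p * (Phi p r X Y).card := by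
    rw [W_sdiff P hsub, W_all P (s := Phi p r X Y) fun σ hσ =>
      h.hP.trans (Finset.mem_filter.1 hσ).2]
    ring
  rw [← hW]
  have hinv : Inv X (Sig p r Y \ Phi p r X Y) := by
    refine ((inv_orb Y _).mono hXY.le).sdiff ?_
    refine ((inv_orb Y _).mono hXY.le).filter fun x hx σ hσ => ?_
    rw [← cj_eq_self hx]
    exact cj_mono x hσ
  have hno : ∀ σ ∈ Sig p r Y \ Phi p r X Y, ¬ X ≤ σ := fun σ hσ e =>
    (Finset.mem_sdiff.1 hσ).2 (Finset.mem_filter.2 ⟨(Finset.mem_sdiff.1 hσ).1, e⟩)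
  have hall : AllSylow p (Sig p r Y \ Phi p r X Y) := fun σ hσ =>
    ((h.sig_spec hY hXY).1 σ (Finset.mem_sdiff.1 hσ).1).1
  have hmem : core p (Y ⊓ r) ∈ Sig p r Y \ Phi p r X Y := Finset.mem_sdiff.2
    ⟨self_mem_orb _ _, fun e => h.big.1 ((Finset.mem_filter.1 e).2.trans (core_inf_le_right Y r))⟩
  rcases h.big.2 with hfree | hbig
  · by_contra hlt
    obtain ⟨x, hx, hPx⟩ := exists_le_cj_of_small P h.ttX h.hP hinv hall hno (not_le.1 hlt) hmem
    exact hfree x hx (hPx.trans (cj_mono x (core_inf_le_right Y r)))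
  · have := W_orb_le P h.ttX h.hP hinv hno hmem
    rw [core_inf_core hXY.le] at this
    linarith

theorem phi_nonempty (hY : PG p Y) (hXY : X < Y) : (Phi p r X Y).Nonempty := by
  by_contra he
  have h1 := h.le_W hY hXY
  have h2 := (h.sig_spec hY hXY).2
  rw [Finset.not_nonempty_iff_eq_empty.1 he] at h1
  simp at h1
  have := h.four'
  nlinarith

theorem j_of_mx (hY : PG p Y) (hXY : X < Y) (hmx : Mx p X Y) : J p r X Y := by
  have hall : ∀ K ∈ Phi p r X Y, K = X := fun K hK => by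
    obtain ⟨hK1, hK2, -, -⟩ := h.phi_spec hY hXY hK
    exact hmx.eq_of_le K hK1.pg hK2 hK1.lt
  have hX : X ∈ Phi p r X Y := by
    obtain ⟨K, hK⟩ := h.phi_nonempty hY hXY
    exact hall K hK ▸ hK
  refine ⟨fun Q hQ hXQ => ?_, fun Z hZ hZY => ?_, fun K hK => ?_, fun _ => hX, ?_⟩
  · rw [hmx.eq_of_le Q hQ.pg hXQ hQ.lt]; exact hX
  · exact ⟨X, hX, hZ.lt.not_ge, fun L hL _ => hall L hL⟩
  · obtain ⟨Z, hZ, hZY⟩ := exists_atom hY hXY
    exact ⟨Z, hZ, hZY, hall K hK ▸ hZ.lt.not_ge⟩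
  · intro K hK K' hK' hne
    exact absurd ((hall K hK).trans (hall K' hK').symm) hne

/-- when `X` is the only member over `X` -/
theorem orbit_X (hY : PG p Y) (hXY : X < Y) (hX : X ∈ Phi p r X Y)
    (h1 : (Phi p r X Y).card = 1) : (p : ℤ) * (p - 2) ≤ W P (orb Y X) := by
  have := h.le_W hY hXY
  rw [h1] at this
  have e : orb Y X = Sig p r Y := orb_eq_of_mem (h.phi_spec hY hXY hX).2.2.1
  rw [e]
  push_cast at this
  linarith

section step

variable (hY : PG p Y) (hXY : X < Y) (hnmx : ¬ Mx p X Y)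
  (IH : ∀ K : Subgroup G, PG p K → X < K → K < Y → J p r X K)

include hY hXY hnmx IH

theorem node_of_mem {K : Subgroup G} (hK : K ∈ Phi p r X Y) :
    Mx p K Y ∧ X < K ∧ K ≠ ⊤ ∧ J p r X K := by
  obtain ⟨h1, h2, -, h4⟩ := h.phi_spec hY hXY hK
  have hlt : X < K := lt_of_le_of_ne h2 fun e => hnmx (e ▸ h1)
  exact ⟨h1, hlt, h4, IH K h1.pg hlt h1.lt⟩

theorem W_erase_le {K : Subgroup G} (hK : K ∈ Phi p r X Y) :
    W P (Sig p r Y \ {K}) ≤ (p : ℤ) * (p - 1) := by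
  obtain ⟨-, h2, h3, -⟩ := h.phi_spec hY hXY hK
  rw [W_sdiff P (by simp [h3]), W_singleton P (h.hP.trans h2)]
  have := (h.sig_spec hY hXY).2
  linarith

theorem inv_erase {K : Subgroup G} (hK : K ∈ Phi p r X Y) :
    Inv K (Sig p r Y \ {K}) :=
  ((inv_orb Y _).mono (h.node_of_mem hY hXY hnmx IH hK).1.lt.le).sdiff (inv_singleton le_rfl)

theorem not_le_erase {K σ : Subgroup G} (hK : K ∈ Phi p r X Y) (hσ : σ ∈ Sig p r Y \ {K}) :
    ¬ K ≤ σ := fun e => by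
  rw [Finset.mem_sdiff, Finset.mem_singleton] at hσ
  have h2 := ((h.sig_spec hY hXY).1 σ hσ.1).2
  exact hσ.2 ((h.phi_spec hY hXY hK).1.eq_of_le σ h2.pg e h2.lt)

theorem mem_erase {K L : Subgroup G} (hL : L ∈ Phi p r X Y) (hne : L ≠ K) :
    L ∈ Sig p r Y \ {K} :=
  Finset.mem_sdiff.2 ⟨(Finset.mem_filter.1 hL).1, fun e => hne (Finset.mem_singleton.1 e)⟩

theorem phi_mem {K L : Subgroup G} (hK : K ∈ Phi p r X Y) (hL : L ∈ Phi p r X Y) (hne : L ≠ K) :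
    core p (K ⊓ L) ∈ Phi p r X K := by
  obtain ⟨hKmx, hXK, hKt, hJ⟩ := h.node_of_mem hY hXY hnmx IH hK
  have hXQ : X ≤ core p (K ⊓ L) :=
    (le_core_inf_iff h.pg).2 ⟨hXK.le, (Finset.mem_filter.1 hL).2⟩
  refine hJ.maxmem _ (mx_of_W_le P h.ctx.below hKmx.pg hKt (pg_core _) (h.hP.trans hXQ)
    (core_inf_lt (h.not_le_erase hY hXY hnmx IH hK (h.mem_erase hY hXY hnmx IH hL hne))) ?_) hXQ
  exact (W_orb_le P (h.ctx.below K hKmx.pg hKt) (h.hP.trans hXK.le)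
    (h.inv_erase hY hXY hnmx IH hK) (fun _ => h.not_le_erase hY hXY hnmx IH hK)
    (h.mem_erase hY hXY hnmx IH hL hne)).trans (h.W_erase_le hY hXY hnmx IH hK)

theorem phi_surj {K Q : Subgroup G} (hK : K ∈ Phi p r X Y) (hQ : Q ∈ Phi p r X K) :
    ∃ L ∈ Phi p r X Y, L ≠ K ∧ core p (K ⊓ L) = Q := by
  obtain ⟨hKmx, hXK, -, -⟩ := h.node_of_mem hY hXY hnmx IH hK
  obtain ⟨hQmx, hXQ, hQmem, -⟩ := h.phi_spec hKmx.pg hXK hQ
  obtain ⟨k, hk, hkQ⟩ := mem_orb.1 hQmem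
  have e : core p (K ⊓ cj k (core p (Y ⊓ r))) = Q := by
    rw [core_inf_cj hk, core_inf_core hKmx.lt.le, hkQ]
  refine ⟨cj k (core p (Y ⊓ r)), Finset.mem_filter.2 ⟨?_, ?_⟩, fun e' => ?_, e⟩
  · exact mem_orb.2 ⟨k, hKmx.lt.le hk, rfl⟩
  · exact hXQ.trans (e ▸ core_inf_le_right _ _)
  · rw [e', inf_idem, hKmx.pg] at e
    exact hQmx.lt.ne e.symm

theorem exists_ne {K : Subgroup G} (hK : K ∈ Phi p r X Y) : ∃ L ∈ Phi p r X Y, L ≠ K := by
  obtain ⟨hKmx, hXK, -, -⟩ := h.node_of_mem hY hXY hnmx IH hK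
  obtain ⟨Q, hQ⟩ := h.phi_nonempty hKmx.pg hXK
  obtain ⟨L, hL, hne, -⟩ := h.phi_surj hY hXY hnmx IH hK hQ
  exact ⟨L, hL, hne⟩

theorem phi_inj {K L L' : Subgroup G} (hK : K ∈ Phi p r X Y) (hL : L ∈ Phi p r X Y)
    (hL' : L' ∈ Phi p r X Y) (hne : L ≠ K) (hne' : L' ≠ K)
    (he : core p (K ⊓ L) = core p (K ⊓ L')) : L = L' := by
  by_contra hLL'
  obtain ⟨hKmx, hXK, hKt, hJK⟩ := h.node_of_mem hY hXY hnmx IH hK
  have hQ := h.phi_mem hY hXY hnmx IH hK hL hne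
  set Q := core p (K ⊓ L) with hQdef
  obtain ⟨hQmx, hXQ, hQmem, -⟩ := h.phi_spec hKmx.pg hXK hQ
  by_cases h1 : ∃ Q2 ∈ Phi p r X K, Q2 ≠ Q
  · obtain ⟨Q2, hQ2, hQ2ne⟩ := h1
    obtain ⟨L2, hL2, hL2K, hL2e⟩ := h.phi_surj hY hXY hnmx IH hK hQ2
    have hL2L : L2 ≠ L := fun e => hQ2ne (by rw [← hL2e, e])
    have hL2L' : L2 ≠ L' := fun e => hQ2ne (by rw [← hL2e, e, ← he])
    obtain ⟨Z, hZ, hZK, hZQ⟩ := hJK.miss Q hQ
    obtain ⟨Q0, -, -, hQ0⟩ := hJK.one Z hZ hZK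
    have hZQ2 : Z ≤ Q2 := by
      by_contra hh
      exact hQ2ne ((hQ0 Q2 hQ2 hh).trans (hQ0 Q hQ hZQ).symm)
    have hZL2 : Z ≤ L2 := hZQ2.trans (hL2e ▸ core_inf_le_right K L2)
    obtain ⟨hL2mx, hXL2, -, hJ2⟩ := h.node_of_mem hY hXY hnmx IH hL2
    obtain ⟨K0, -, -, hK0⟩ := hJ2.one Z hZ hZL2
    have m1 : core p (L2 ⊓ L) = K0 := hK0 _ (h.phi_mem hY hXY hnmx IH hL2 hL hL2L.symm)
      fun e => hZQ ((le_core_inf_iff hZ.pg).2 ⟨hZK, e.trans (core_inf_le_right _ _)⟩)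
    have m2 : core p (L2 ⊓ L') = K0 := hK0 _ (h.phi_mem hY hXY hnmx IH hL2 hL' hL2L'.symm)
      fun e => hZQ (he.symm ▸ (le_core_inf_iff hZ.pg).2 ⟨hZK, e.trans (core_inf_le_right _ _)⟩)
    obtain ⟨hLmx, hXL, -, -⟩ := h.node_of_mem hY hXY hnmx IH hL
    have hLK := (h.phi_spec hLmx.pg hXL (h.phi_mem hY hXY hnmx IH hL hK (Ne.symm hne))).1
    rw [inf_comm, ← hQdef] at hLK
    have hLL'Q : core p (L ⊓ L') = Q := by
      have hlt : core p (L ⊓ L') < L := core_inf_lt (h.not_le_erase hY hXY hnmx IH hL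
        (h.mem_erase hY hXY hnmx IH hL' (Ne.symm hLL')))
      exact hLK.eq_of_le _ (pg_core _) ((le_core_inf_iff hQmx.pg).2
        ⟨core_inf_le_right K L, he ▸ core_inf_le_right K L'⟩) hlt
    have hK0Q : K0 ≤ Q := by
      rw [← hLL'Q, le_core_inf_iff (by rw [← m1]; exact pg_core _)]
      exact ⟨m1 ▸ core_inf_le_right _ _, m2 ▸ core_inf_le_right _ _⟩
    have hmxL := (h.phi_spec hLmx.pg hXL (h.phi_mem hY hXY hnmx IH hL hL2 hL2L)).1
    rw [inf_comm, m1] at hmxL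
    have hQK0 : Q = K0 := hmxL.eq_of_le Q hQmx.pg hK0Q hLK.lt
    have hQQ2 : Q ≤ Q2 := hL2e ▸ (le_core_inf_iff hQmx.pg).2
      ⟨hQmx.lt.le, hQK0 ▸ m1 ▸ core_inf_le_left L2 L⟩
    have hQ2mx := (h.phi_spec hKmx.pg hXK hQ2).1
    exact hQ2ne (hQmx.eq_of_le Q2 hQ2mx.pg hQQ2 hQ2mx.lt)
  · push Not at h1
    have hall : Phi p r X K = {Q} := Finset.eq_singleton_iff_unique_mem.2 ⟨hQ, h1⟩
    have hcard : (Phi p r X K).card = 1 := by rw [hall, Finset.card_singleton]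
    have hQX : X = Q := h1 X (hJK.single hcard)
    have hw := h.orbit_X hKmx.pg hXK (hQX ▸ hQ) hcard
    have := two_mul_W_orb_le P (h.ctx.below K hKmx.pg hKt) (h.hP.trans hXK.le)
      (h.inv_erase hY hXY hnmx IH hK) (fun _ => h.not_le_erase hY hXY hnmx IH hK)
      (h.mem_erase hY hXY hnmx IH hL hne) (h.mem_erase hY hXY hnmx IH hL' hne') hLL'
      hQdef.symm he.symm
    rw [← hQX] at this
    have := h.W_erase_le hY hXY hnmx IH hK
    have := h.four'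
    nlinarith

theorem maxmem_step {Q : Subgroup G} (hQ : Mx p Q Y) (hXQ : X ≤ Q) : Q ∈ Phi p r X Y := by
  by_contra hQn
  have hXQ' : X < Q := lt_of_le_of_ne hXQ fun e => hnmx (e ▸ hQ)
  have hQt : Q ≠ ⊤ := ne_top_of_lt_of_le hQ.lt le_rfl
  have hJQ := IH Q hQ.pg hXQ' hQ.lt
  have ttQ : TT p Q := h.ctx.below Q hQ.pg hQt
  have hno : ∀ σ ∈ Sig p r Y, ¬ Q ≤ σ := fun σ hσ e => by
    have h2 := ((h.sig_spec hY hXY).1 σ hσ).2
    have he := hQ.eq_of_le σ h2.pg e h2.lt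
    exact hQn (Finset.mem_filter.2 ⟨he ▸ hσ, hXQ⟩)
  have hw := (h.sig_spec hY hXY).2
  have hp := h.four'
  have hz : ∀ K ∈ Phi p r X Y, core p (Q ⊓ K) ∈ Phi p r X Q := fun K hK => by
    obtain ⟨hK1, hK2, hK3, -⟩ := h.phi_spec hY hXY hK
    have hXZ : X ≤ core p (Q ⊓ K) := (le_core_inf_iff h.pg).2 ⟨hXQ, hK2⟩
    refine hJQ.maxmem _ (mx_of_W_le P h.ctx.below hQ.pg hQt (pg_core _) (h.hP.trans hXZ)
      (core_inf_lt (hno K hK3)) ?_) hXZ
    refine (W_orb_le P ttQ (h.hP.trans hXQ) ((inv_orb Y _).mono hQ.lt.le) hno hK3).trans ?_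
    refine hw.trans ?_
    nlinarith
  have hpartner : ∀ K ∈ Phi p r X Y, ∃ L ∈ Phi p r X Y, L ≠ K ∧
      core p (Q ⊓ L) = core p (Q ⊓ K) := fun K hK => by
    obtain ⟨hKmx, hXK, -, hJK⟩ := h.node_of_mem hY hXY hnmx IH hK
    have hXZ : X ≤ core p (Q ⊓ K) := (h.phi_spec hQ.pg hXQ' (hz K hK)).2.1
    have hlt : core p (Q ⊓ K) < K := lt_of_le_of_ne (core_inf_le_right Q K) fun e =>
      hQn (hKmx.eq_of_le Q hQ.pg (e ▸ core_inf_le_left Q K) hQ.lt ▸ hK)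
    obtain ⟨Q', hQ', hle⟩ := exists_mx (pg_core (Q ⊓ K)) hlt
    obtain ⟨L, hL, hne, hLe⟩ :=
      h.phi_surj hY hXY hnmx IH hK (hJK.maxmem Q' hQ' (hXZ.trans hle))
    refine ⟨L, hL, hne, ?_⟩
    refine (h.phi_spec hQ.pg hXQ' (hz K hK)).1.eq_of_le _ (pg_core _) ?_
      (h.phi_spec hQ.pg hXQ' (hz L hL)).1.lt
    exact (le_core_inf_iff (pg_core _)).2
      ⟨core_inf_le_left Q K, hle.trans (hLe ▸ core_inf_le_right K L)⟩
  obtain ⟨K, hK⟩ := h.phi_nonempty hY hXY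
  obtain ⟨L, hL, hLK, hLZ⟩ := hpartner K hK
  set Z := core p (Q ⊓ K) with hZdef
  have hZsame : ∀ L2 ∈ Phi p r X Y, core p (Q ⊓ L2) = Z := by
    intro L2 hL2
    by_contra hne
    obtain ⟨N', hN, hNQ, hNZ⟩ := hJQ.miss Z (hz K hK)
    obtain ⟨Z0, -, -, hZ0⟩ := hJQ.one N' hN hNQ
    have hN2 : N' ≤ core p (Q ⊓ L2) := by
      by_contra hh
      exact hne ((hZ0 _ (hz L2 hL2) hh).trans (hZ0 Z (hz K hK) hNZ).symm)
    obtain ⟨-, -, -, hJ2⟩ := h.node_of_mem hY hXY hnmx IH hL2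
    obtain ⟨K0, -, -, hK0⟩ := hJ2.one N' hN (hN2.trans (core_inf_le_right _ _))
    have hK2 : K ≠ L2 := fun e => hne (by rw [← e])
    have hL2' : L ≠ L2 := fun e => hne (by rw [← e, hLZ])
    have m1 := hK0 _ (h.phi_mem hY hXY hnmx IH hL2 hK hK2)
      fun e => hNZ ((le_core_inf_iff hN.pg).2 ⟨hNQ, e.trans (core_inf_le_right _ _)⟩)
    have m2 := hK0 _ (h.phi_mem hY hXY hnmx IH hL2 hL hL2')
      fun e => hNZ (hLZ ▸ (le_core_inf_iff hN.pg).2 ⟨hNQ, e.trans (core_inf_le_right _ _)⟩)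
    exact hLK (h.phi_inj hY hXY hnmx IH hL2 hL hK hL2' hK2 (m2.trans m1.symm))
  have hZX : Z = X := by
    by_contra hne
    obtain ⟨hZmx, hXZ, -, -⟩ := h.phi_spec hQ.pg hXQ' (hz K hK)
    obtain ⟨N', hN, hNZ⟩ := exists_atom hZmx.pg (lt_of_le_of_ne hXZ (Ne.symm hne))
    obtain ⟨-, -, -, hJK⟩ := h.node_of_mem hY hXY hnmx IH hK
    obtain ⟨Q', hQ', hNQ', -⟩ := hJK.one N' hN (hNZ.trans (core_inf_le_right Q K))
    obtain ⟨L2, hL2, -, hL2e⟩ := h.phi_surj hY hXY hnmx IH hK hQ'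
    exact hNQ' (hL2e ▸ (le_core_inf_iff hN.pg).2 ⟨hNZ.trans (core_inf_le_right Q K),
      (hNZ.trans (hZsame L2 hL2).ge).trans (core_inf_le_right Q L2)⟩)
  have hXmem : X ∈ Phi p r X Q := hZX ▸ hz K hK
  have hXmx : Mx p X Q := (h.phi_spec hQ.pg hXQ' hXmem).1
  have hcard : (Phi p r X Q).card = 1 := by
    rw [Finset.eq_singleton_iff_unique_mem.2 ⟨hXmem, fun σ hσ => ?_⟩, Finset.card_singleton]
    exact hXmx.eq_of_le σ (h.phi_spec hQ.pg hXQ' hσ).1.pg (h.phi_spec hQ.pg hXQ' hσ).2.1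
      (h.phi_spec hQ.pg hXQ' hσ).1.lt
  have h1 := h.orbit_X hQ.pg hXQ' hXmem hcard
  have h2 := two_mul_W_orb_le P ttQ (h.hP.trans hXQ) ((inv_orb Y _).mono hQ.lt.le) hno
    (Finset.mem_filter.1 hK).1 (Finset.mem_filter.1 hL).1 hLK.symm
    (hZdef.symm.trans hZX) (hLZ.trans hZX)
  have h3 : W P (orb Y (core p (Y ⊓ r))) ≤ (p : ℤ) * (p - 2) := hw
  nlinarith

theorem one_step {Z : Subgroup G} (hZ : Atom p X Z) (hZY : Z ≤ Y) :
    ∃ K ∈ Phi p r X Y, ¬ Z ≤ K ∧ ∀ L ∈ Phi p r X Y, ¬ Z ≤ L → L = K := by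
  have hne : Z ≠ Y := fun e => hnmx ⟨h.pg, hXY, fun K hK h1 h2 => by
    by_contra hh
    exact h2.ne ((hZ.eq_of_le K hK (lt_of_le_of_ne h1 (Ne.symm hh)) (e ▸ h2.le)).trans e)⟩
  obtain ⟨K, hKmx, hZK⟩ := exists_mx hZ.pg (lt_of_le_of_ne hZY hne)
  have hK := h.maxmem_step hY hXY hnmx IH hKmx (hZ.lt.le.trans hZK)
  obtain ⟨-, -, -, hJK⟩ := h.node_of_mem hY hXY hnmx IH hK
  obtain ⟨Q0, hQ0, hQ0n, hQ0u⟩ := hJK.one Z hZ hZK
  obtain ⟨L0, hL0, hL0K, hL0e⟩ := h.phi_surj hY hXY hnmx IH hK hQ0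
  refine ⟨L0, hL0, fun e => hQ0n (hL0e ▸ (le_core_inf_iff hZ.pg).2 ⟨hZK, e⟩),
    fun L hL hLn => ?_⟩
  have hLK : L ≠ K := fun e => hLn (e ▸ hZK)
  exact h.phi_inj hY hXY hnmx IH hK hL hL0 hLK hL0K
    ((hQ0u _ (h.phi_mem hY hXY hnmx IH hK hL hLK)
      fun e => hLn (e.trans (core_inf_le_right _ _))).trans hL0e.symm)

theorem swap_step {K K' : Subgroup G} (hK : K ∈ Phi p r X Y) (hK' : K' ∈ Phi p r X Y)
    (hne : K ≠ K') : ∃ g ∈ Y, cj g X = X ∧ cj g K = K' ∧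
      cj g K' = K ∧ ∀ L ∈ Phi p r X Y, L ≠ K → L ≠ K' → cj g L = L := by
  by_cases h3 : ∃ L ∈ Phi p r X Y, L ≠ K ∧ L ≠ K'
  · obtain ⟨L, hL, hLK, hLK'⟩ := h3
    obtain ⟨hLmx, -, -, hJL⟩ := h.node_of_mem hY hXY hnmx IH hL
    have h1 := h.phi_mem hY hXY hnmx IH hL hK hLK.symm
    have h2 := h.phi_mem hY hXY hnmx IH hL hK' hLK'.symm
    obtain ⟨g, hg, hgX, g1, g2, g3⟩ := hJL.swap _ h1 _ h2
      fun e => hne (h.phi_inj hY hXY hnmx IH hL hK hK' hLK.symm hLK'.symm e)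
    have hgY : g ∈ Y := hLmx.lt.le hg
    have img : ∀ A B, A ∈ Phi p r X Y → B ∈ Phi p r X Y → A ≠ L → B ≠ L →
        cj g (core p (L ⊓ A)) = core p (L ⊓ B) → cj g A = B := by
      intro A B hA hB hAL hBL e
      have hmem : cj g A ∈ Phi p r X Y := Finset.mem_filter.2
        ⟨inv_orb Y _ g hgY A (Finset.mem_filter.1 hA).1,
          hgX ▸ cj_mono g (Finset.mem_filter.1 hA).2⟩
      refine h.phi_inj hY hXY hnmx IH hL hmem hB
        (fun e' => hAL (cj_injective g (by rw [e', cj_eq_self hg]))) hBL ?_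
      rw [core_inf_cj hg, e]
    refine ⟨g, hgY, hgX, img K K' hK hK' hLK.symm hLK'.symm g1,
      img K' K hK' hK hLK'.symm hLK.symm g2, fun M hM hMK hMK' => ?_⟩
    by_cases hML : M = L
    · rw [hML, cj_eq_self hg]
    · refine img M M hM hM hML hML (g3 _ (h.phi_mem hY hXY hnmx IH hL hM hML) ?_ ?_)
      · exact fun e => hMK (h.phi_inj hY hXY hnmx IH hL hM hK hML hLK.symm e)
      · exact fun e => hMK' (h.phi_inj hY hXY hnmx IH hL hM hK' hML hLK'.symm e)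
  · push Not at h3
    have key : ∀ A B, A ∈ Phi p r X Y → B ∈ Phi p r X Y → A ≠ B →
        (∀ L ∈ Phi p r X Y, L ≠ A → L = B) →
        core p (A ⊓ B) = X ∧ (p : ℤ) * (p - 2) ≤ W P (orb A X) := by
      intro A B hA hB hAB h3
      obtain ⟨hAmx, hXA, -, hJA⟩ := h.node_of_mem hY hXY hnmx IH hA
      have hQ := h.phi_mem hY hXY hnmx IH hA hB hAB.symm
      have hc : (Phi p r X A).card = 1 := by
        rw [Finset.eq_singleton_iff_unique_mem.2 ⟨hQ, fun Q hQ' => ?_⟩, Finset.card_singleton]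
        obtain ⟨L, hL, hLA, hLe⟩ := h.phi_surj hY hXY hnmx IH hA hQ'
        rw [← hLe, h3 L hL hLA]
      have hX := hJA.single hc
      exact ⟨Finset.card_le_one.1 hc.le _ hQ _ hX, h.orbit_X hAmx.pg hXA hX hc⟩
    obtain ⟨hX1, hw1⟩ := key K K' hK hK' hne h3
    obtain ⟨hKmx, hXK, hKt, -⟩ := h.node_of_mem hY hXY hnmx IH hK
    obtain ⟨-, -, hKs, -⟩ := h.phi_spec hY hXY hK
    obtain ⟨-, -, hKs', -⟩ := h.phi_spec hY hXY hK'
    let rel : Subgroup G → Subgroup G → Prop := fun a b => ∃ y ∈ Y, cj y K = a ∧ cj y K' = b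
    have heq : ∀ g ∈ Y, ∀ a b, rel a b → rel (cj g a) (cj g b) := by
      rintro g hg a b ⟨y, hy, h1, h2⟩
      exact ⟨g * y, Y.mul_mem hg hy, by rw [cj_mul, h1], by rw [cj_mul, h2]⟩
    let sY := Sig p r Y
    let O := sY.filter fun τ => rel K τ
    let S := sY.filter fun τ => rel τ K
    have hinvY : Inv Y sY := inv_orb Y _
    have hinv : Inv K O ∧ Inv K S := by
      constructor <;> refine (hinvY.mono hKmx.lt.le).filter fun k hk τ hτ => ?_ <;>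
        simpa [cj_eq_self hk] using heq k (hKmx.lt.le hk) _ _ hτ
    have hsub : O ⊆ sY \ {K} ∧ S ⊆ sY \ {K} := by
      constructor <;> intro τ hτ <;> obtain ⟨hτ1, y, hy, h1, h2⟩ := Finset.mem_filter.1 hτ <;>
        refine Finset.mem_sdiff.2 ⟨hτ1, fun e => hne (cj_injective y ?_)⟩ <;>
        rw [Finset.mem_singleton] at e <;> rw [h1, h2, e]
    have hD : ∀ τ ∈ O ∪ S, D p K τ = D p K X := by
      intro τ hτ
      have hN : N p (K ⊓ τ) = N p (K ⊓ X) := by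
        rw [← N_core (K ⊓ τ), inf_eq_right.2 hXK.le]
        rcases Finset.mem_union.1 hτ with hτ | hτ <;>
          obtain ⟨-, y, -, h1, h2⟩ := Finset.mem_filter.1 hτ
        · rw [← h1, ← h2, ← cj_core_inf, hX1, N_cj]
        · rw [← h2, ← h1, ← cj_core_inf, inf_comm, hX1, N_cj]
      rw [D, D, hN]
    have hcnt : O.card = S.card := by
      have e1 : ∀ a ∈ sY, (sY.bipartiteAbove rel a).card = O.card := by
        intro a ha
        obtain ⟨g, hg, rfl⟩ := mem_orb.1 (show a ∈ orb Y K by rwa [orb_eq_of_mem hKs])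
        refine Finset.card_bij' (fun σ _ => cj g⁻¹ σ) (fun σ _ => cj g σ) ?_ ?_ ?_ ?_
        · intro σ hσ
          simp only [O, Finset.bipartiteAbove, Finset.mem_filter] at hσ ⊢
          exact ⟨hinvY _ (Y.inv_mem hg) _ hσ.1, by
            simpa using heq g⁻¹ (Y.inv_mem hg) _ _ hσ.2⟩
        · intro σ hσ
          simp only [O, Finset.bipartiteAbove, Finset.mem_filter] at hσ ⊢
          exact ⟨hinvY _ hg _ hσ.1, heq g hg _ _ hσ.2⟩
        · intro σ _; simp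
        · intro σ _; simp
      have e2 : ∀ a ∈ sY, (sY.bipartiteBelow rel a).card = S.card := by
        intro a ha
        obtain ⟨g, hg, rfl⟩ := mem_orb.1 (show a ∈ orb Y K by rwa [orb_eq_of_mem hKs])
        refine Finset.card_bij' (fun σ _ => cj g⁻¹ σ) (fun σ _ => cj g σ) ?_ ?_ ?_ ?_
        · intro σ hσ
          simp only [S, Finset.bipartiteBelow, Finset.mem_filter] at hσ ⊢
          exact ⟨hinvY _ (Y.inv_mem hg) _ hσ.1, by
            simpa using heq g⁻¹ (Y.inv_mem hg) _ _ hσ.2⟩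
        · intro σ hσ
          simp only [S, Finset.bipartiteBelow, Finset.mem_filter] at hσ ⊢
          exact ⟨hinvY _ hg _ hσ.1, heq g hg _ _ hσ.2⟩
        · intro σ _; simp
        · intro σ _; simp
      have := Finset.sum_card_bipartiteAbove_eq_sum_card_bipartiteBelow rel (s := sY) (t := sY)
      rw [Finset.sum_congr rfl e1, Finset.sum_congr rfl e2, Finset.sum_const, Finset.sum_const,
        smul_eq_mul, smul_eq_mul] at this
      exact Nat.eq_of_mul_eq_mul_left (Finset.card_pos.2 ⟨K, hKs⟩) this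
    have hPK : (P : Subgroup G) ≤ K := h.hP.trans hXK.le
    have hWeq : W P O = W P S := by
      refine mul_left_cancel₀ (N_pos_of_le hPK).ne' ?_
      rw [N_mul_W P hPK hinv.1, N_mul_W P hPK hinv.2,
        Finset.sum_congr rfl fun τ hτ => hD τ (Finset.mem_union_left S hτ),
        Finset.sum_congr rfl fun τ hτ => hD τ (Finset.mem_union_right O hτ),
        Finset.sum_const, Finset.sum_const, hcnt]
    have hnoK := fun σ => h.not_le_erase hY hXY hnmx IH hK (σ := σ)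
    have ttK := h.ctx.below K hKmx.pg hKt
    have hmemO : K' ∈ O :=
      Finset.mem_filter.2 ⟨hKs', 1, Y.one_mem, cj_one K, cj_one K'⟩
    have hWO : (p : ℤ) * (p - 2) ≤ W P O := by
      have := W_orb_le P ttK hPK hinv.1 (fun σ hσ => hnoK σ (hsub.1 hσ)) hmemO
      rw [hX1] at this
      linarith
    obtain ⟨τ, hτO, hτS⟩ : ∃ τ, τ ∈ O ∧ τ ∈ S := by
      by_contra hh
      push Not at hh
      have hu : Inv K (O ∪ S) := fun k hk σ hσ => by
        rcases Finset.mem_union.1 hσ with hσ | hσ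
        · exact Finset.mem_union_left _ (hinv.1 k hk σ hσ)
        · exact Finset.mem_union_right _ (hinv.2 k hk σ hσ)
      have := W_le_of_subset P ttK hPK (h.inv_erase hY hXY hnmx IH hK) hu
        (Finset.union_subset hsub.1 hsub.2) hnoK
      rw [W_union P (Finset.disjoint_left.2 hh), ← hWeq] at this
      have := h.W_erase_le hY hXY hnmx IH hK
      have := h.four'
      nlinarith
    obtain ⟨-, m, hm, m1, m2⟩ := Finset.mem_filter.1 hτO
    obtain ⟨-, y, hy, y1, y2⟩ := Finset.mem_filter.1 hτS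
    have g1 : cj (m⁻¹ * y) K = K' := by rw [cj_mul, y1, ← m2, cj_inv_cj]
    have g2 : cj (m⁻¹ * y) K' = K := by
      rw [cj_mul, y2]
      conv_lhs => rw [← m1]
      rw [cj_inv_cj]
    refine ⟨m⁻¹ * y, Y.mul_mem (Y.inv_mem hm) hy, ?_, g1, g2,
      fun L hL h1 h2 => absurd (h3 L hL h1) h2⟩
    rw [← hX1, cj_core_inf, g1, g2, inf_comm]

theorem j_step : J p r X Y := by
  refine ⟨fun Q hQ hXQ => h.maxmem_step hY hXY hnmx IH hQ hXQ,
    fun Z hZ hZY => h.one_step hY hXY hnmx IH hZ hZY, fun K hK => ?_, fun hc => ?_,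
    fun K hK K' hK' hne => h.swap_step hY hXY hnmx IH hK hK' hne⟩
  · obtain ⟨L, hL, hne⟩ := h.exists_ne hY hXY hnmx IH hK
    obtain ⟨hLmx, -, -, hJL⟩ := h.node_of_mem hY hXY hnmx IH hL
    obtain ⟨Z, hZ, hZL, hZn⟩ := hJL.miss _ (h.phi_mem hY hXY hnmx IH hL hK hne.symm)
    exact ⟨Z, hZ, hZL.trans hLmx.lt.le,
      fun e => hZn ((le_core_inf_iff hZ.pg).2 ⟨hZL, e⟩)⟩
  · obtain ⟨K, hK⟩ := h.phi_nonempty hY hXY
    obtain ⟨L, hL, hne⟩ := h.exists_ne hY hXY hnmx IH hK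
    exact absurd (Finset.card_le_one.1 hc.le L hL K hK) hne

end step

theorem j_all : ∀ n : ℕ, ∀ Y : Subgroup G, Nat.card Y = n → PG p Y → X < Y → J p r X Y := by
  intro n
  induction n using Nat.strong_induction_on with
  | h n ih =>
    intro Y hn hY hXY
    by_cases hmx : Mx p X Y
    · exact h.j_of_mx hY hXY hmx
    · exact h.j_step hY hXY hmx fun K hK hXK hKY =>
        ih _ (hn ▸ card_lt_of_lt hKY) K rfl hK hXK

theorem false_of_setup : False := by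
  have hXt : X < ⊤ := h.ne.lt_top
  have hJ := h.j_all _ ⊤ rfl h.ctx.top hXt
  have hp := h.four'
  have hc : p ≤ (Phi p r X ⊤).card := by
    have h1 := h.le_W h.ctx.top hXt
    have e : Sig p r ⊤ = orb ⊤ H := by
      rw [Sig, top_inf_eq, h.ctx.pg_of_mem h.hr, orb_eq_of_mem h.hr]
    rw [e, h.ctx.W_orbit] at h1
    have : (p : ℤ) ≤ (Phi p r X ⊤).card := by
      refine le_of_mul_le_mul_left (a := (p : ℤ)) ?_ (by omega)
      linarith
    exact_mod_cast this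
  let Nx : Subgroup G :=
    { carrier := {g | cj g X = X}
      one_mem' := cj_one X
      mul_mem' := fun {a b} (ha : cj a X = X) (hb : cj b X = X) =>
        show cj (a * b) X = X by rw [cj_mul, hb, ha]
      inv_mem' := fun {a} (ha : cj a X = X) => show cj a⁻¹ X = X by
        conv_lhs => rw [← ha]
        rw [cj_inv_cj] }
  have hstab : ∀ g ∈ Nx, ∀ σ ∈ Phi p r X ⊤, cj g σ ∈ Phi p r X ⊤ := fun g hg σ hσ =>
    Finset.mem_filter.2 ⟨inv_orb ⊤ _ g (mem_top g) σ (Finset.mem_filter.1 hσ).1,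
      (show cj g X = X from hg) ▸ cj_mono g (Finset.mem_filter.1 hσ).2⟩
  let _ : MulAction ↥Nx {σ // σ ∈ Phi p r X ⊤} :=
    { smul := fun g σ => ⟨cj (g : G) σ.1, hstab g g.2 σ.1 σ.2⟩
      one_smul := fun σ => Subtype.ext (cj_one _)
      mul_smul := fun a b σ => Subtype.ext (cj_mul _ _ _) }
  let f := MulAction.toPermHom ↥Nx {σ // σ ∈ Phi p r X ⊤}
  have hf : f.range = ⊤ := by
    rw [eq_top_iff, ← Equiv.Perm.closure_isSwap, Subgroup.closure_le]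
    rintro π ⟨K, K', hne, rfl⟩
    obtain ⟨g, -, hgX, g1, g2, g3⟩ := hJ.swap K.1 K.2 K'.1 K'.2 fun e => hne (Subtype.ext e)
    refine ⟨⟨g, hgX⟩, Equiv.ext fun σ => Subtype.ext ?_⟩
    show cj g σ.1 = (Equiv.swap K K' σ).1
    by_cases h1 : σ = K
    · rw [h1, Equiv.swap_apply_left, g1]
    by_cases h2 : σ = K'
    · rw [h2, Equiv.swap_apply_right, g2]
    rw [Equiv.swap_apply_of_ne_of_ne h1 h2]
    exact g3 _ σ.2 (fun e => h1 (Subtype.ext e)) fun e => h2 (Subtype.ext e)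
  have hdvd : p ∣ f.ker.index := by
    rw [Subgroup.index_ker, hf, Subgroup.card_top, Nat.card_perm, Nat.card_eq_finsetCard]
    exact Nat.dvd_factorial (Fact.out : p.Prime).pos hc
  have hPN : (P : Subgroup G) ≤ Nx := fun x hx => cj_eq_self (h.hP hx)
  have hker : (P : Subgroup G).subgroupOf Nx ≤ f.ker := fun x hx => by
    rw [MonoidHom.mem_ker]
    refine Equiv.ext fun σ => Subtype.ext ?_
    show cj (x : G) σ.1 = σ.1
    exact cj_eq_self ((Finset.mem_filter.1 σ.2).2 (h.hP (Subgroup.mem_subgroupOf.1 hx)))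
  have h1 : Nat.card (P : Subgroup G) * p ∣ Nat.card G := by
    refine dvd_trans ?_ (Subgroup.card_subgroup_dvd_card Nx)
    rw [← f.ker.card_mul_index]
    refine Nat.mul_dvd_mul ?_ hdvd
    rw [← Nat.card_congr (Subgroup.subgroupOfEquivOfLe hPN).toEquiv]
    exact Subgroup.card_dvd_of_le hker
  rw [← (P : Subgroup G).card_mul_index] at h1
  exact P.not_dvd_index (Nat.dvd_of_mul_dvd_mul_left Nat.card_pos h1)

end Setup

theorem Ctx.false_of_four {H : Subgroup G} (h : Ctx p P H) (hp : 4 ≤ p) : False := by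
  let S : Set (Subgroup G) :=
    {X | PG p X ∧ (P : Subgroup G) ≤ X ∧ X ≠ ⊤ ∧ ∃ r ∈ orb ⊤ H, Big P X r}
  have hS : S.Nonempty := by
    refine ⟨P, pg_sylow P, le_rfl, ne_top_of_le_ne_top h.ne h.hP, ?_⟩
    obtain ⟨r, hr, hPr⟩ : ∃ r ∈ orb ⊤ H, ¬ (P : Subgroup G) ≤ r := by
      by_contra hh
      push Not at hh
      have := h.W_orbit
      rw [W_all P hh] at this
      have h1 : ((orb ⊤ H).card : ℤ) = 1 := by
        have : (0 : ℤ) < p := by exact_mod_cast (Fact.out : p.Prime).pos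
        nlinarith
      obtain ⟨s, k, hk, hs, -⟩ := h.exists_moved (self_mem_orb ⊤ H)
      exact hs (Finset.card_le_one.1 (by omega) _ (mem_orb.2 ⟨s, mem_top s, rfl⟩) _
        (self_mem_orb ⊤ H))
    refine ⟨r, hr, hPr, Or.inl fun x hx e => hPr ?_⟩
    rw [le_cj_iff, cj_eq_self ((P : Subgroup G).inv_mem hx)] at e
    exact e
  obtain ⟨X, hX⟩ := (Set.toFinite S).exists_maximal hS
  obtain ⟨h1, h2, h3, r, hr, hbig⟩ := hX.prop
  exact Setup.false_of_setup (X := X) (r := r) ⟨h, hp, hr, h1, h2, h3, hbig,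
    fun Y hY hYt hlt hb => hlt.not_ge (hX.2 ⟨hY, h2.trans hlt.le, hYt, r, hr, hb⟩ hlt.le)⟩

end Cfsg.Agent.SylowFix
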