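import Mathlib
import Cfsg.Agent.Lib.Classical.GL2

/-!
# The order of an element of `SL₂` with trace in a subfield
-/

set_option autoImplicit false
set_option linter.unusedSectionVars false
set_option linter.style.haveILetI false

namespace Cfsg.Agent.SylowFix

open scoped MatrixGroups

variable {F : Type*} [Field F]

theorem sq_eq (s : SL(2, F)) :
    (s : Matrix (Fin 2) (Fin 2) F) * (s : Matrix (Fin 2) (Fin 2) F) =
      (s : Matrix (Fin 2) (Fin 2) F).trace • (s : Matrix (Fin 2) (Fin 2) F) - 1 := by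
  have h := s.prop
  rw [Matrix.det_fin_two] at h
  ext i j
  fin_cases i <;> fin_cases j <;>
    simp [Matrix.mul_apply, Matrix.trace_fin_two, Fin.sum_univ_two] <;>
    first | linear_combination h | linear_combination -h | ring

/-- The order divides the order of `SL₂` over any subfield containing the trace. -/
theorem orderOf_dvd_of_trace [Fintype F] (K : Subfield F) (s : SL(2, F))
    (ht : (s : Matrix (Fin 2) (Fin 2) F).trace ∈ K) [Fintype K] :
    orderOf s ∣ Fintype.card K * ((Fintype.card K - 1) * (Fintype.card K + 1)) := by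
  classical
  set t : K := ⟨_, ht⟩ with htdef
  let C : SL(2, K) := ⟨!![0, -1; 1, t], by simp [Matrix.det_fin_two]⟩
  have hC : (C : Matrix (Fin 2) (Fin 2) K) = !![0, -1; 1, t] := rfl
  have hC2 := sq_eq C
  have hCt : (C : Matrix (Fin 2) (Fin 2) K).trace = t := by rw [hC]; simp [Matrix.trace_fin_two]
  rw [hCt] at hC2
  have hs2 : (s : Matrix (Fin 2) (Fin 2) F) * (s : Matrix (Fin 2) (Fin 2) F) =
      (t : F) • (s : Matrix (Fin 2) (Fin 2) F) - 1 := sq_eq s
  have key : ∀ k : ℕ, ∃ a b : K,
      (C : Matrix (Fin 2) (Fin 2) K) ^ k = a • (C : Matrix (Fin 2) (Fin 2) K) + b • 1 ∧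
      (s : Matrix (Fin 2) (Fin 2) F) ^ k = (a : F) • (s : Matrix (Fin 2) (Fin 2) F) + (b : F) • 1 := by
    intro k
    induction k with
    | zero => exact ⟨0, 1, by simp, by simp⟩
    | succ k ih =>
      obtain ⟨a, b, h1, h2⟩ := ih
      refine ⟨a * t + b, -a, ?_, ?_⟩
      · rw [pow_succ, h1, add_mul, Matrix.smul_mul, Matrix.smul_mul, one_mul, hC2]
        simp only [smul_sub, smul_smul, add_smul, neg_smul]
        abel
      · rw [pow_succ, h2, add_mul, Matrix.smul_mul, Matrix.smul_mul, one_mul, hs2]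
        push_cast
        simp only [smul_sub, smul_smul, add_smul, neg_smul]
        abel
  obtain ⟨a, b, h1, h2⟩ := key (orderOf C)
  have h1' : (C : Matrix (Fin 2) (Fin 2) K) ^ orderOf C = 1 := by
    rw [← Matrix.SpecialLinearGroup.coe_pow, pow_orderOf_eq_one]; rfl
  rw [h1', hC] at h1
  have ha : a = 0 := by simpa using (congrFun (congrFun h1 1) 0).symm
  have hb : b = 1 := by simpa [ha] using (congrFun (congrFun h1 0) 0).symm
  have h3 : s ^ orderOf C = 1 := by
    apply Subtype.ext
    rw [Matrix.SpecialLinearGroup.coe_pow, h2, ha, hb]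
    simp
  refine (orderOf_dvd_of_pow_eq_one h3).trans ?_
  have h4 := orderOf_dvd_natCard C
  rwa [Classical.GL2.natCard_SL_two] at h4

/-- A field automorphism fixes a subfield over which the field has degree its order. -/
theorem exists_fixed [Fintype F] (τ : F ≃+* F) :
    ∃ (K : Subfield F) (_ : Fintype K), Fintype.card F = Fintype.card K ^ orderOf τ ∧
      ∀ x : F, τ x = x → x ∈ K := by
  classical
  haveI : Finite (F ≃+* F) := Finite.of_injective _ DFunLike.coe_injective
  let H : Subgroup (RingAut F) := Subgroup.zpowers τ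
  haveI : Fintype H := Fintype.ofFinite H
  haveI : FaithfulSMul H F := ⟨fun {a b} h => Subtype.ext (RingEquiv.ext h)⟩
  refine ⟨FixedPoints.subfield H F, Fintype.ofFinite _, ?_, fun x hx => ?_⟩
  · have h := Module.natCard_eq_pow_finrank (K := FixedPoints.subfield H F) (V := F)
    rw [FixedPoints.finrank_eq_card H F, Fintype.card_eq_nat_card (α := H), Nat.card_zpowers] at h
    rw [Fintype.card_eq_nat_card, Fintype.card_eq_nat_card]
    exact h
  · rintro ⟨g, hg⟩
    have hle : H ≤ MulAction.stabilizer (RingAut F) x := Subgroup.zpowers_le.2 hx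
    exact hle hg

/-- The `r`-part of `Q^n - 1` exceeds that of `Q - 1` when `r` divides `n`. -/
theorem mul_dvd_pow_sub_one {Q r n : ℕ} (hQ : 1 ≤ Q) (hr : r ∣ Q - 1) (hn : r ∣ n) :
    (Q - 1) * r ∣ Q ^ n - 1 := by
  obtain ⟨m, rfl⟩ := hn
  obtain ⟨x, rfl⟩ : ∃ x, Q = x + 1 := ⟨Q - 1, by omega⟩
  rw [Nat.add_sub_cancel] at hr ⊢
  refine dvd_trans ?_ (by simpa [← pow_mul] using Nat.sub_dvd_pow_sub_pow ((x + 1) ^ r) 1 m)
  have h := geom_sum_mul_add x r
  have hs : r ∣ ∑ i ∈ Finset.range r, (x + 1) ^ i := by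
    rw [← ZMod.natCast_eq_zero_iff]
    have hx : (x : ZMod r) = 0 := (ZMod.natCast_eq_zero_iff x r).2 hr
    push_cast
    simp [hx]
  rw [← h, Nat.add_sub_cancel, mul_comm x r]
  exact Nat.mul_dvd_mul_right hs x

end Cfsg.Agent.SylowFix
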