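import Cfsg.Agent.Lib.SylowFix.Big

/-!
# The bound on Sylow numbers of proper subgroups, and on fixed points of a Sylow subgroup
-/

set_option autoImplicit false
set_option linter.unusedSectionVars false

open scoped Classical
open Subgroup

universe u

namespace Cfsg.Agent.SylowFix

variable {p : ℕ} [Fact p.Prime]

theorem Ctx.absurd_all {G : Type*} [Group G] [Finite G] {P : Sylow p G} {H : Subgroup G}
    (h : Ctx p P H) : False := by
  rcases Nat.lt_or_ge p 4 with hp | hp
  · have h2 := (Fact.out : p.Prime).two_le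
    rcases (show p = 2 ∨ p = 3 by omega) with e | e
    · exact h.false_of_two e
    · exact h.false_of_three e
  · exact h.false_of_four hp

theorem N_eq_zero {G : Type*} [Group G] [Finite G] {S : Subgroup G} (h : ¬ HasSylow p S) :
    N p S = 0 :=
  Nat.eq_zero_of_not_pos fun hn => h (hasSylow_of_N_pos hn)

theorem pg_top_subtype {G : Type*} [Group G] {Y : Subgroup G} (hY : PG p Y) :
    PG p (⊤ : Subgroup ↥Y) := by
  refine top_le_iff.1 ?_
  have key : Y ≤ (core p (⊤ : Subgroup ↥Y)).map Y.subtype := by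
    conv_lhs => rw [← hY, core]
    rw [Subgroup.closure_le]
    rintro x ⟨hx, k, hk⟩
    exact ⟨⟨x, hx⟩, mem_core (mem_top _) (k := k) (Subtype.ext (by simpa using hk)), rfl⟩
  intro y _
  obtain ⟨z, hz, e⟩ := key y.2
  exact (Subtype.ext e : z = y) ▸ hz

theorem N_subgroupOf {G : Type*} [Group G] [Finite G] {S Y : Subgroup G} (hS : HasSylow p S)
    (hSY : S ≤ Y) : N p (S.subgroupOf Y) = N p S := by
  refine (Nat.card_congr (Equiv.ofBijective
    (fun Q : {Q : Sylow p G // (Q : Subgroup G) ≤ S} =>
      (⟨Q.1.subtype (Q.2.trans hSY), fun x hx => Q.2 (Subgroup.mem_subgroupOf.1 hx)⟩ :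
        {R : Sylow p Y // (R : Subgroup Y) ≤ S.subgroupOf Y}))
    ⟨fun a b h => Subtype.ext (Sylow.subtype_injective (hP := a.2.trans hSY)
      (hQ := b.2.trans hSY) (congrArg (fun R => R.1) h :)),
      fun R => ?_⟩)).symm
  obtain ⟨Q, hQ, hQR⟩ := exists_sylow_eq_subtype (hS.mono hSY) R.1
  have hQS : (Q : Subgroup G) ≤ S := fun x hx => by
    have := R.2 (show (⟨x, hQ hx⟩ : Y) ∈ (R.1 : Subgroup Y) by
      rw [← hQR]; simpa [Sylow.coe_subtype, Subgroup.mem_subgroupOf] using hx)
    simpa [Subgroup.mem_subgroupOf] using this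
  exact ⟨⟨Q, hQS⟩, Subtype.ext hQR⟩

theorem bound_top_aux : ∀ n : ℕ, ∀ (G : Type u) [Group G] [Finite G], Nat.card G = n →
    PG p (⊤ : Subgroup G) → TT p (⊤ : Subgroup G) := by
  intro n
  induction n using Nat.strong_induction_on with
  | h n ih =>
    intro G _ _ hn htop
    have hB : Below p G := by
      intro Y hY hYt S hS
      by_cases hSS : HasSylow p S
      · have hlt : Nat.card Y < n := by
          rw [← hn, ← Subgroup.card_top (G := G)]
          exact card_lt_of_lt hYt.lt_top
        have ht := ih _ hlt Y rfl (pg_top_subtype hY) (S.subgroupOf Y)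
          (lt_top_iff_ne_top.2 fun e => hS.not_ge (Subgroup.subgroupOf_eq_top.1 e))
        rw [N_subgroupOf hSS hS.le, ← Subgroup.subgroupOf_self,
          N_subgroupOf (hSS.mono hS.le) le_rfl] at ht
        exact ht
      · rw [N_eq_zero hSS]
        have := two_le_p (p := p)
        push_cast
        nlinarith [Int.natCast_nonneg (N p Y)]
    intro S hS
    by_contra hbad
    have hSS : HasSylow p S := by
      by_contra hSS
      rw [N_eq_zero hSS] at hbad
      apply hbad
      have := two_le_p (p := p)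
      push_cast
      nlinarith [Int.natCast_nonneg (N p (⊤ : Subgroup G))]
    obtain ⟨P, hP⟩ := hSS
    refine Ctx.absurd_all (P := P) (H := core p S) ⟨hB, htop, pg_core _,
      (pg_sylow P).le_core_iff.2 hP, ne_top_of_le_ne_top hS.ne (core_le S), ?_⟩
    rw [N_core]
    exact not_le.1 hbad

/-- Sylow numbers in a group generated by its `p`-elements -/
theorem bound_top {G : Type u} [Group G] [Finite G] (htop : PG p (⊤ : Subgroup G)) :
    TT p (⊤ : Subgroup G) :=
  bound_top_aux _ G rfl htop

theorem bound {G : Type u} [Group G] [Finite G] {Y : Subgroup G} (hY : PG p Y) : TT p Y := by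
  intro S hS
  by_cases hSS : HasSylow p S
  · have ht := bound_top (pg_top_subtype hY) (S.subgroupOf Y)
      (lt_top_iff_ne_top.2 fun e => hS.not_ge (Subgroup.subgroupOf_eq_top.1 e))
    rw [N_subgroupOf hSS hS.le, ← Subgroup.subgroupOf_self,
      N_subgroupOf (hSS.mono hS.le) le_rfl] at ht
    exact ht
  · rw [N_eq_zero hSS]
    have := two_le_p (p := p)
    push_cast
    nlinarith [Int.natCast_nonneg (N p Y)]

theorem N_top {G : Type*} [Group G] [Finite G] : N p (⊤ : Subgroup G) = Nat.card (Sylow p G) :=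
  Nat.card_congr (Equiv.subtypeUnivEquiv fun _ => le_top)

theorem cj_core_top {G : Type*} [Group G] (g : G) :
    cj g (core p (⊤ : Subgroup G)) = core p ⊤ := by
  rw [cj_core, cj_top]

/-- A Sylow subgroup of a faithful transitive group fixes few points. -/
theorem fixed_bound {G Ω : Type*} [Group G] [Finite G] [MulAction G Ω] [FaithfulSMul G Ω]
    [Finite Ω] (htrans : MulAction.IsPretransitive G Ω) (hpG : p ∣ Nat.card G) (P : Sylow p G) :
    (2 * p - 1) * Nat.card {ω : Ω // (P : Subgroup G) ≤ MulAction.stabilizer G ω} ≤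
      (p - 1) * Nat.card Ω := by
  have := Fintype.ofFinite Ω
  have := Fintype.ofFinite (Sylow p G)
  set K := core p (⊤ : Subgroup G) with hK
  have hKall : ∀ Q : Sylow p G, (Q : Subgroup G) ≤ K := fun Q =>
    (pg_sylow Q).le_core_iff.2 le_top
  have hnot : ∀ ω : Ω, ¬ K ≤ MulAction.stabilizer G ω := by
    intro ω hle
    obtain ⟨x, hx⟩ := exists_prime_orderOf_dvd_card' p hpG
    have hxK : x ∈ K := mem_core (mem_top x) (k := 1) (by rw [pow_one, ← hx, pow_orderOf_eq_one])
    have hx1 : x = 1 := by
      refine FaithfulSMul.eq_of_smul_eq_smul (α := Ω) fun ω' => ?_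
      obtain ⟨g, rfl⟩ := htrans.exists_smul_eq ω ω'
      have h1 : g⁻¹ * x * g ∈ K := mem_cj.1 (by rw [hK, cj_core_top]; exact hxK)
      have h2 : (g⁻¹ * x * g) • ω = ω := hle h1
      rw [one_smul]
      rw [mul_smul, mul_smul, inv_smul_eq_iff] at h2
      exact h2
    rw [hx1, orderOf_one] at hx
    exact (Fact.out : p.Prime).one_lt.ne hx
  set f := Nat.card {ω : Ω // (P : Subgroup G) ≤ MulAction.stabilizer G ω} with hf
  have hconst : ∀ Q : Sylow p G,
      (Finset.univ.filter fun ω : Ω => (Q : Subgroup G) ≤ MulAction.stabilizer G ω).card = f := by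
    intro Q
    obtain ⟨g, rfl⟩ := MulAction.exists_smul_eq G P Q
    rw [hf, Nat.card_eq_fintype_card, Fintype.card_subtype]
    refine Finset.card_bij' (fun ω _ => g⁻¹ • ω) (fun ω _ => g • ω) ?_ ?_ ?_ ?_
    · intro ω hω
      simp only [Finset.mem_filter, Finset.mem_univ, true_and] at hω ⊢
      intro y hy
      have h1 := hω (show g * y * g⁻¹ ∈ ((g • P : Sylow p G) : Subgroup G) by
        rw [coe_smul_sylow]; exact conj_mem_cj hy)
      rw [MulAction.mem_stabilizer_iff, mul_smul, mul_smul, smul_eq_iff_eq_inv_smul] at h1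
      exact h1
    · intro ω hω
      simp only [Finset.mem_filter, Finset.mem_univ, true_and] at hω ⊢
      intro y hy
      rw [coe_smul_sylow, mem_cj] at hy
      have h1 := hω hy
      rw [MulAction.mem_stabilizer_iff, mul_smul, mul_smul, inv_smul_eq_iff] at h1
      exact h1
    · intro ω _; simp
    · intro ω _; simp
  have hN : ∀ ω : Ω, N p (K ⊓ MulAction.stabilizer G ω) =
      ((Finset.univ : Finset (Sylow p G)).bipartiteAbove
        (fun (ω : Ω) (Q : Sylow p G) => (Q : Subgroup G) ≤ MulAction.stabilizer G ω) ω).card := by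
    intro ω
    rw [N, Nat.card_eq_fintype_card, Fintype.card_subtype]
    congr 1
    ext Q
    simp [Finset.bipartiteAbove, hKall Q]
  have hsum : ∑ ω : Ω, N p (K ⊓ MulAction.stabilizer G ω) = N p K * f := by
    simp only [hN]
    rw [Finset.sum_card_bipartiteAbove_eq_sum_card_bipartiteBelow]
    refine (Finset.sum_congr rfl (g := fun _ => f) fun Q _ => hconst Q).trans ?_
    rw [Finset.sum_const, smul_eq_mul,
      Finset.card_univ, N, ← Nat.card_eq_fintype_card,
      Nat.card_congr (Equiv.subtypeUnivEquiv hKall)]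
  have h1 : (2 * (p : ℤ) - 1) * ((N p K : ℤ) * f) ≤
      ((p : ℤ) - 1) * N p K * Nat.card Ω := by
    have hs : ((N p K : ℤ) * f) = ∑ ω : Ω, (N p (K ⊓ MulAction.stabilizer G ω) : ℤ) := by
      exact_mod_cast hsum.symm
    rw [hs, Finset.mul_sum]
    refine (Finset.sum_le_sum fun ω _ =>
      bound (pg_core _) _ (inf_lt_left.2 (hnot ω))).trans (le_of_eq ?_)
    rw [Finset.sum_const, nsmul_eq_mul, Finset.card_univ, Nat.card_eq_fintype_card]
    ring
  have hpos : (0 : ℤ) < N p K := N_pos_of_le (hKall P)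
  have h2 : (2 * (p : ℤ) - 1) * f ≤ ((p : ℤ) - 1) * Nat.card Ω := by
    refine le_of_mul_le_mul_left ?_ hpos
    linarith
  have := (Fact.out : p.Prime).two_le
  zify [show 1 ≤ 2 * p by omega, show 1 ≤ p by omega]
  exact h2

/-- orbit count against fixed points -/
theorem orbit_count {G Ω : Type*} [Group G] [MulAction G Ω] [Finite Ω] (P : Subgroup G)
    (hP : IsPGroup p P) :
    p * Nat.card (MulAction.orbitRel.Quotient ↥P Ω) ≤
      (p - 1) * Nat.card {ω : Ω // P ≤ MulAction.stabilizer G ω} + Nat.card Ω := by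
  have := Fintype.ofFinite Ω
  have := Fintype.ofFinite (MulAction.orbitRel.Quotient ↥P Ω)
  let c : MulAction.orbitRel.Quotient ↥P Ω → ℕ := fun q => Nat.card (MulAction.orbit ↥P q.out)
  have hn : Nat.card Ω = ∑ q, c q := by
    rw [Nat.card_congr (MulAction.selfEquivSigmaOrbits ↥P Ω), Nat.card_sigma]
  have hfix : (Finset.univ.filter fun q => c q = 1).card ≤
      Nat.card {ω : Ω // P ≤ MulAction.stabilizer G ω} := by
    rw [← Nat.card_eq_finsetCard]
    refine Nat.card_le_card_of_injective (fun q => ⟨q.1.out, fun x hx => ?_⟩) fun a b hab => ?_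
    · have h1 : c q.1 = 1 := (Finset.mem_filter.1 q.2).2
      have := (Nat.card_eq_one_iff_unique.1 h1).1
      have e := congrArg (fun ω => ω.1) (Subsingleton.elim
        (⟨(⟨x, hx⟩ : P) • q.1.out, MulAction.mem_orbit _ _⟩ : MulAction.orbit ↥P q.1.out)
        ⟨q.1.out, MulAction.mem_orbit_self _⟩)
      simpa using e
    · refine Subtype.ext ?_
      have e : a.1.out = b.1.out := congrArg (fun ω => ω.1) hab
      simpa using congrArg (Quotient.mk (MulAction.orbitRel ↥P Ω)) e
  have hterm : ∀ q, p ≤ c q + (p - 1) * (if c q = 1 then 1 else 0) := by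
    intro q
    obtain ⟨k, hk⟩ := hP.card_orbit q.out
    rcases k with _ | k
    · have : c q = 1 := hk.trans (pow_zero p)
      simp only [this, if_true]
      omega
    · have : c q = p ^ (k + 1) := hk
      have : p ≤ c q := this ▸ Nat.le_self_pow (by omega) p
      omega
  calc p * Nat.card (MulAction.orbitRel.Quotient ↥P Ω)
      = ∑ _q : MulAction.orbitRel.Quotient ↥P Ω, p := by
        rw [Finset.sum_const, smul_eq_mul, Finset.card_univ, Nat.card_eq_fintype_card, mul_comm]
    _ ≤ ∑ q, (c q + (p - 1) * (if c q = 1 then 1 else 0)) :=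
        Finset.sum_le_sum fun q _ => hterm q
    _ ≤ _ := by
        rw [Finset.sum_add_distrib, ← hn, ← Finset.mul_sum, Finset.sum_boole, add_comm]
        exact Nat.add_le_add_right (Nat.mul_le_mul_left _ (by simpa using hfix)) _

end Cfsg.Agent.SylowFix
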