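import Cfsg.Agent.Lib.SylowFix.Basic

/-!
# The induction hypothesis and a minimal counterexample

`Below p G` is the bound for all proper subgroups of `G`; `Ctx p P H` says that `H` violates the
bound in `G`. The orbit of `H` then has weight exactly `-p`.
-/

set_option autoImplicit false
set_option linter.unusedSectionVars false

open scoped Classical
open Subgroup

namespace Cfsg.Agent.SylowFix

variable {G : Type*} [Group G] [Finite G] {p : ℕ} [Fact p.Prime]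

/-- the bound for subgroups of `Y` -/
def TT (p : ℕ) (Y : Subgroup G) : Prop :=
  ∀ S : Subgroup G, S < Y → (2 * (p : ℤ) - 1) * N p S ≤ ((p : ℤ) - 1) * N p Y

/-- the bound for all proper subgroups -/
def Below (p : ℕ) (G : Type*) [Group G] : Prop :=
  ∀ Y : Subgroup G, PG p Y → Y ≠ ⊤ → TT p Y

theorem ne_top_of_lt_of_le {A B C : Subgroup G} (h1 : A < B) (h2 : B ≤ C) : A ≠ ⊤ :=
  (h1.trans_le (h2.trans le_top)).ne

theorem card_lt_of_lt {A B : Subgroup G} (h : A < B) : Nat.card A < Nat.card B :=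
  lt_of_not_ge fun hc => h.ne (eq_of_le_of_card_le h.le hc)

theorem card_of_mem_orb {Y σ τ : Subgroup G} (h : τ ∈ orb Y σ) : Nat.card τ = Nat.card σ := by
  obtain ⟨y, -, rfl⟩ := mem_orb.1 h
  exact card_cj y σ

theorem not_le_of_mem_orb {Y K Q σ : Subgroup G} (hQ : Q < K) (h : σ ∈ orb Y Q) : ¬ K ≤ σ :=
  fun hle => absurd ((Subgroup.card_le_of_le hle).trans (card_of_mem_orb h).le)
    (card_lt_of_lt hQ).not_ge

theorem orb_le {Y σ τ : Subgroup G} (hσ : σ ≤ Y) (h : τ ∈ orb Y σ) : τ ≤ Y := by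
  obtain ⟨y, hy, rfl⟩ := mem_orb.1 h
  rw [← cj_eq_self hy]
  exact cj_mono y hσ

theorem N_pos_of_le {P : Sylow p G} {K : Subgroup G} (hP : (P : Subgroup G) ≤ K) :
    (0 : ℤ) < N p K := by
  exact_mod_cast N_pos ⟨P, hP⟩

theorem D_nonneg {Y τ : Subgroup G} (hY : TT p Y) (h : ¬ Y ≤ τ) : 0 ≤ D p Y τ :=
  sub_nonneg.2 (hY _ (inf_lt_left.2 h))

variable (P : Sylow p G)

theorem W_nonneg {K : Subgroup G} (hK : TT p K) (hP : (P : Subgroup G) ≤ K)
    {s : Finset (Subgroup G)} (hs : Inv K s) (hno : ∀ σ ∈ s, ¬ K ≤ σ) : 0 ≤ W P s := by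
  refine nonneg_of_mul_nonneg_right ?_ (N_pos_of_le hP)
  rw [N_mul_W P hP hs]
  exact Finset.sum_nonneg fun τ hτ => D_nonneg hK (hno τ hτ)

theorem W_orb_nonneg {K Q : Subgroup G} (hK : TT p K) (hP : (P : Subgroup G) ≤ K) (hQ : Q < K) :
    0 ≤ W P (orb K Q) :=
  W_nonneg P hK hP (inv_orb K Q) fun _ h => not_le_of_mem_orb hQ h

theorem W_le_of_subset {K : Subgroup G} (hK : TT p K) (hP : (P : Subgroup G) ≤ K)
    {s t : Finset (Subgroup G)} (hs : Inv K s) (ht : Inv K t) (hsub : t ⊆ s)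
    (hno : ∀ σ ∈ s, ¬ K ≤ σ) : W P t ≤ W P s := by
  have := W_nonneg P hK hP (hs.sdiff ht) fun σ hσ => hno σ (Finset.mem_sdiff.1 hσ).1
  rw [W_sdiff P hsub] at this
  linarith

theorem core_inf_cj {K τ : Subgroup G} {y : G} (hy : y ∈ K) :
    core p (K ⊓ cj y τ) = cj y (core p (K ⊓ τ)) := by
  rw [cj_core, cj_inf, cj_eq_self hy]

theorem le_core_inf_iff {K τ S : Subgroup G} (hS : PG p S) :
    S ≤ core p (K ⊓ τ) ↔ S ≤ K ∧ S ≤ τ := by
  rw [hS.le_core_iff, le_inf_iff]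

theorem core_inf_le_left (K τ : Subgroup G) : core p (K ⊓ τ) ≤ K :=
  (core_le _).trans inf_le_left

theorem core_inf_le_right (K τ : Subgroup G) : core p (K ⊓ τ) ≤ τ :=
  (core_le _).trans inf_le_right

theorem core_inf_lt {K τ : Subgroup G} (h : ¬ K ≤ τ) : core p (K ⊓ τ) < K :=
  (core_le _).trans_lt (inf_lt_left.2 h)

theorem wt_core_inf {K τ : Subgroup G} (hP : (P : Subgroup G) ≤ K) :
    wt P τ = wt P (core p (K ⊓ τ)) := by
  simp [wt, le_core_inf_iff (pg_sylow P), hP]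

theorem W_class_le {K : Subgroup G} (hK : TT p K) (hP : (P : Subgroup G) ≤ K)
    {s : Finset (Subgroup G)} (hs : Inv K s) (hno : ∀ σ ∈ s, ¬ K ≤ σ) (Q : Subgroup G) :
    ((s.filter fun τ => core p (K ⊓ τ) = Q).card : ℤ) * W P (orb K Q) ≤ W P s := by
  let c := s.filter fun τ => core p (K ⊓ τ) ∈ orb K Q
  have hc : Inv K c := hs.filter (q := fun τ => core p (K ⊓ τ) ∈ orb K Q) fun y hy σ hσ => by
    simp only [core_inf_cj hy]; exact inv_orb K Q y hy _ hσ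
  refine le_trans (le_of_eq ?_) (W_le_of_subset P hK hP hs hc (Finset.filter_subset _ _) hno)
  calc ((s.filter fun τ => core p (K ⊓ τ) = Q).card : ℤ) * W P (orb K Q)
      = ∑ R ∈ orb K Q, ∑ τ ∈ c with core p (K ⊓ τ) = R, wt P τ := by
        rw [W, Finset.mul_sum]
        refine Finset.sum_congr rfl fun R hR => ?_
        rw [Finset.sum_congr rfl (g := fun _ => wt P R), Finset.sum_const, nsmul_eq_mul]
        · congr 2
          obtain ⟨y, hy, rfl⟩ := mem_orb.1 hR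
          refine Finset.card_bij' (fun σ _ => cj y σ) (fun σ _ => cj y⁻¹ σ) ?_ ?_ ?_ ?_
          · intro σ hσ
            simp only [c, Finset.mem_filter] at hσ ⊢
            refine ⟨⟨hs y hy σ hσ.1, ?_⟩, ?_⟩ <;> rw [core_inf_cj hy, hσ.2]
            exact hR
          · intro σ hσ
            simp only [c, Finset.mem_filter] at hσ ⊢
            refine ⟨hs y⁻¹ (K.inv_mem hy) σ hσ.1.1, ?_⟩
            rw [core_inf_cj (K.inv_mem hy), hσ.2, cj_inv_cj]
          · intro σ _; simp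
          · intro σ _; simp
        · intro τ hτ
          rw [wt_core_inf P hP, (Finset.mem_filter.1 hτ).2]
    _ = W P c := Finset.sum_fiberwise_of_maps_to (fun τ hτ => (Finset.mem_filter.1 hτ).2) _

theorem W_orb_le {K : Subgroup G} (hK : TT p K) (hP : (P : Subgroup G) ≤ K)
    {s : Finset (Subgroup G)} (hs : Inv K s) (hno : ∀ σ ∈ s, ¬ K ≤ σ) {τ : Subgroup G}
    (hτ : τ ∈ s) : W P (orb K (core p (K ⊓ τ))) ≤ W P s := by
  have h0 := W_orb_nonneg P hK hP (core_inf_lt (hno τ hτ) : core p (K ⊓ τ) < K)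
  refine le_trans ?_ (W_class_le P hK hP hs hno (core p (K ⊓ τ)))
  refine le_mul_of_one_le_left h0 ?_
  have hmem : τ ∈ s.filter fun σ => core p (K ⊓ σ) = core p (K ⊓ τ) :=
    Finset.mem_filter.2 ⟨hτ, rfl⟩
  exact_mod_cast Finset.card_pos.2 ⟨τ, hmem⟩

theorem two_mul_W_orb_le {K : Subgroup G} (hK : TT p K) (hP : (P : Subgroup G) ≤ K)
    {s : Finset (Subgroup G)} (hs : Inv K s) (hno : ∀ σ ∈ s, ¬ K ≤ σ) {τ τ' Q : Subgroup G}
    (hτ : τ ∈ s) (hτ' : τ' ∈ s) (hne : τ ≠ τ') (hQ : core p (K ⊓ τ) = Q)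
    (hQ' : core p (K ⊓ τ') = Q) : 2 * W P (orb K Q) ≤ W P s := by
  have h0 := W_orb_nonneg P hK hP (hQ ▸ core_inf_lt (hno τ hτ) : Q < K)
  refine le_trans ?_ (W_class_le P hK hP hs hno Q)
  refine mul_le_mul_of_nonneg_right ?_ h0
  exact_mod_cast Finset.one_lt_card.2 ⟨τ, Finset.mem_filter.2 ⟨hτ, hQ⟩, τ',
    Finset.mem_filter.2 ⟨hτ', hQ'⟩, hne⟩

theorem exists_le_cj_of_small {K : Subgroup G} (hK : TT p K) (hP : (P : Subgroup G) ≤ K)
    {s : Finset (Subgroup G)} (hs : Inv K s) (hall : AllSylow p s)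
    (hno : ∀ σ ∈ s, ¬ K ≤ σ) (hsmall : W P s < (p : ℤ) * (p - 1)) {τ : Subgroup G}
    (hτ : τ ∈ s) : ∃ y ∈ K, (P : Subgroup G) ≤ cj y τ := by
  by_contra hcon
  push Not at hcon
  have hsub := orb_subset hs hτ
  have h1 := W_free_ge P hP (inv_orb K τ) (fun σ hσ => hall σ (hsub hσ)) ⟨τ, self_mem_orb K τ⟩
    fun σ hσ => by
      obtain ⟨y, hy, rfl⟩ := mem_orb.1 hσ
      exact hcon y hy
  have h2 := W_le_of_subset P hK hP hs (inv_orb K τ) hsub hno
  linarith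

/-- maximal among the subgroups of `Y` generated by `p`-elements -/
structure Mx (p : ℕ) (Q Y : Subgroup G) : Prop where
  pg : PG p Q
  lt : Q < Y
  eq_of_le : ∀ K : Subgroup G, PG p K → Q ≤ K → K < Y → K = Q

theorem Mx.eq' {Q Y K : Subgroup G} (h : Mx p Q Y) (hK : PG p K) (h1 : Q ≤ K) (h2 : K ≤ Y)
    (h3 : K ≠ Y) : K = Q :=
  h.eq_of_le K hK h1 (lt_of_le_of_ne h2 h3)

theorem exists_mx {Z Y : Subgroup G} (hZ : PG p Z) (hlt : Z < Y) :
    ∃ Q, Mx p Q Y ∧ Z ≤ Q := by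
  obtain ⟨Q, hZQ, hQ⟩ := (Set.toFinite {K : Subgroup G | PG p K ∧ K < Y}).exists_le_maximal
    (show Z ∈ {K : Subgroup G | PG p K ∧ K < Y} from ⟨hZ, hlt⟩)
  exact ⟨Q, ⟨hQ.prop.1, hQ.prop.2, fun K hK h1 h2 => le_antisymm (hQ.2 ⟨hK, h2⟩ h1) h1⟩, hZQ⟩

/-- a small orbit consists of maximal subgroups -/
theorem mx_of_W_le (hB : Below p G) {Y V : Subgroup G} (hY : PG p Y) (hY' : Y ≠ ⊤)
    (hV : PG p V) (hP : (P : Subgroup G) ≤ V) (hVY : V < Y)
    (hW : W P (orb Y V) ≤ (p : ℤ) * (p - 1)) : Mx p V Y := by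
  refine ⟨hV, hVY, fun K hK hVK hKY => ?_⟩
  by_contra hne
  have hVK' : V < K := lt_of_le_of_ne hVK (Ne.symm hne)
  have hPY : (P : Subgroup G) ≤ Y := hP.trans hVY.le
  have hPK : (P : Subgroup G) ≤ K := hP.trans hVK
  have hKt : K ≠ ⊤ := ne_top_of_lt_of_le hKY le_rfl
  have t1 := hB K hK hKt V hVK'
  have t2 := hB Y hY hY' K hKY
  have h2 := two_le_p (p := p)
  have hall : AllSylow p (orb Y V) := allSylow_orb ⟨P, hP⟩
  set f := ((orb Y V).filter fun σ => (P : Subgroup G) ≤ σ).card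
  have hfpos : 1 ≤ f := Finset.card_pos.2 ⟨V, Finset.mem_filter.2 ⟨self_mem_orb Y V, hP⟩⟩
  have hcount : ∀ {A : Subgroup G}, (P : Subgroup G) ≤ A → V ≤ A →
      (orb A V).card * N p V =
        N p A * ((orb A V).filter fun σ => (P : Subgroup G) ≤ σ).card := by
    intro A hA hVA
    rw [← sum_N_inf P hA (inv_orb A V), Finset.sum_congr rfl (g := fun _ => N p V),
      Finset.sum_const, smul_eq_mul]
    intro τ hτ
    rw [inf_eq_right.2 (orb_le hVA hτ)]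
    obtain ⟨y, -, rfl⟩ := mem_orb.1 hτ
    exact N_cj y V
  have hcY : ((orb Y V).card : ℤ) * N p V = (N p Y : ℤ) * f := by
    exact_mod_cast hcount hPY hVY.le
  have hNY := N_pos_of_le hPY
  set n := (orb Y V).card
  have hWY : W P (orb Y V) = ((p : ℤ) - 1) * n - (2 * p - 1) * f := W_eq P _
  have hsq : (2 * (p : ℤ) - 1) ^ 2 * f ≤ ((p : ℤ) - 1) ^ 2 * n := by
    refine le_of_mul_le_mul_left ?_ hNY
    have e1 := mul_le_mul_of_nonneg_left t1 (by omega : (0 : ℤ) ≤ 2 * p - 1)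
    have e2 := mul_le_mul_of_nonneg_left t2 (by omega : (0 : ℤ) ≤ (p : ℤ) - 1)
    have e3 : (2 * (p : ℤ) - 1) ^ 2 * N p V ≤ ((p : ℤ) - 1) ^ 2 * N p Y := by linarith
    have e4 := mul_le_mul_of_nonneg_left e3 (Int.natCast_nonneg n)
    rw [mul_left_comm, mul_left_comm (n : ℤ)] at e4
    rw [hcY] at e4
    linarith
  have hn : (n : ℤ) ≤ 2 * p - 1 := by
    have e1 := mul_le_mul_of_nonneg_left hW (by omega : (0 : ℤ) ≤ 2 * p - 1)
    rw [hWY] at e1
    have e2 : (p : ℤ) * (p - 1) * n ≤ (p : ℤ) * (p - 1) * (2 * p - 1) := by linarith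
    exact le_of_mul_le_mul_left e2 (by nlinarith)
  have hd := dvd_W P hPY (inv_orb Y V) hall
  have hsub : orb K V ⊆ orb Y V := orb_subset ((inv_orb Y V).mono hKY.le) (self_mem_orb Y V)
  set f' := ((orb K V).filter fun σ => (P : Subgroup G) ≤ σ).card
  set n' := (orb K V).card
  have hd' := dvd_W P hPK (inv_orb K V) (allSylow_orb ⟨P, hP⟩)
  rw [hWY] at hd
  rw [W_eq] at hd'
  have hpn : (p : ℤ) ∣ (n : ℤ) - f := by
    obtain ⟨c, hc⟩ := hd
    exact ⟨(n : ℤ) - 2 * f - c, by linear_combination -hc⟩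
  have hpn' : (p : ℤ) ∣ (n' : ℤ) - f' := by
    obtain ⟨c, hc⟩ := hd'
    exact ⟨(n' : ℤ) - 2 * f' - c, by linear_combination -hc⟩
  have hR := W_nonneg P (hB K hK hKt) hPK
    (((inv_orb Y V).mono hKY.le).sdiff (inv_orb K V))
    fun σ hσ => not_le_of_mem_orb hVK' (Finset.mem_sdiff.1 hσ).1
  rw [W_sdiff P hsub, hWY, W_eq] at hR
  have hO' := W_nonneg P (hB K hK hKt) hPK (inv_orb K V)
    fun σ hσ => not_le_of_mem_orb hVK' hσ
  rw [W_eq] at hO'
  have hffle : f' ≤ f := Finset.card_le_card (Finset.filter_subset_filter _ hsub)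
  have hfpos' : 1 ≤ f' := Finset.card_pos.2 ⟨V, Finset.mem_filter.2 ⟨self_mem_orb K V, hP⟩⟩
  have hrle : (n' : ℤ) - f' ≤ (n : ℤ) - f := by
    have e := Finset.card_le_card (s := (orb K V).filter fun σ => ¬ (P : Subgroup G) ≤ σ)
      (t := (orb Y V).filter fun σ => ¬ (P : Subgroup G) ≤ σ)
      (Finset.filter_subset_filter _ hsub)
    have a1 := Finset.card_filter_add_card_filter_not (s := orb K V)
      (fun σ => (P : Subgroup G) ≤ σ)
    have a2 := Finset.card_filter_add_card_filter_not (s := orb Y V)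
      (fun σ => (P : Subgroup G) ≤ σ)
    omega
  obtain ⟨c, hc⟩ := hpn
  obtain ⟨c', hc'⟩ := hpn'
  have hc2 : c < 2 := by nlinarith
  have hc1 : 0 < c' := by
    by_contra h
    nlinarith
  have hcc : c' ≤ c := by nlinarith
  have hfe : f' = f := by
    have : c' = c := by omega
    subst this
    have : ((f' : ℤ)) ≥ f := by nlinarith
    omega
  have hne' : orb K V = orb Y V := by
    refine Finset.eq_of_subset_of_card_le hsub ?_
    have : c' = c := by omega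
    subst this
    omega
  have hcK := hcount hPK hVK
  rw [hne'] at hcK
  have hcY' := hcount hPY hVY.le
  rw [hcY'] at hcK
  have hNeq := Nat.eq_of_mul_eq_mul_right hfpos hcK
  exact hKY.ne (eq_of_N_le hY ⟨P, hPY⟩ hKY.le hNeq.le)

/-- `H` violates the bound -/
structure Ctx (p : ℕ) (P : Sylow p G) (H : Subgroup G) : Prop where
  below : Below p G
  top : PG p (⊤ : Subgroup G)
  pg : PG p H
  hP : (P : Subgroup G) ≤ H
  ne : H ≠ ⊤
  bad : ((p : ℤ) - 1) * N p (⊤ : Subgroup G) < (2 * (p : ℤ) - 1) * N p H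

namespace Ctx

variable {P} {H : Subgroup G} (h : Ctx p P H)
include h

theorem pg_of_mem {σ : Subgroup G} (hσ : σ ∈ orb ⊤ H) : PG p σ := by
  obtain ⟨g, -, rfl⟩ := mem_orb.1 hσ
  exact h.pg.cj g

theorem hasSylow_of_mem {σ : Subgroup G} (hσ : σ ∈ orb ⊤ H) : HasSylow p σ :=
  allSylow_orb ⟨P, h.hP⟩ σ hσ

theorem ne_top_of_mem {σ : Subgroup G} (hσ : σ ∈ orb ⊤ H) : σ ≠ ⊤ := by
  obtain ⟨g, -, rfl⟩ := mem_orb.1 hσ
  exact fun e => h.ne (cj_injective g (by rw [e, cj_top]))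

theorem eq_of_le {σ τ : Subgroup G} (hσ : σ ∈ orb ⊤ H) (hτ : τ ∈ orb ⊤ H) (hle : σ ≤ τ) :
    σ = τ :=
  eq_of_le_of_card_le hle ((card_of_mem_orb hτ).trans (card_of_mem_orb hσ).symm).le

theorem tt : TT p H := h.below H h.pg h.ne

theorem W_neg : W P (orb ⊤ H) < 0 := by
  have e := N_mul_W_orb P (Y := ⊤) le_top H
  have hD : D p ⊤ H < 0 := by rw [D, top_inf_eq]; linarith [h.bad]
  have hc : (0 : ℤ) < (orb ⊤ H).card := by
    exact_mod_cast Finset.card_pos.2 ⟨H, self_mem_orb ⊤ H⟩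
  by_contra hw
  nlinarith [mul_nonneg (N_pos_of_le (P := P) (le_top : _ ≤ (⊤ : Subgroup G))).le (not_lt.1 hw)]

theorem inv_rest : Inv H (orb ⊤ H \ {H}) :=
  ((inv_orb ⊤ H).mono le_top).sdiff (inv_singleton le_rfl)

theorem not_le_rest {σ : Subgroup G} (hσ : σ ∈ orb ⊤ H \ {H}) : ¬ H ≤ σ := fun hle => by
  rw [Finset.mem_sdiff, Finset.mem_singleton] at hσ
  exact hσ.2 (h.eq_of_le (self_mem_orb ⊤ H) hσ.1 hle).symm

theorem W_orbit : W P (orb ⊤ H) = -p := by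
  have h1 := W_nonneg P h.tt h.hP h.inv_rest fun _ => h.not_le_rest
  rw [W_sdiff P (by simp [self_mem_orb]), W_singleton P h.hP] at h1
  obtain ⟨c, hc⟩ := dvd_W P (K := ⊤) le_top (inv_orb ⊤ H) (allSylow_orb ⟨P, h.hP⟩)
  have h2 := h.W_neg
  have h3 := two_le_p (p := p)
  have : c = -1 := by
    have a : c < 0 := by by_contra hh; nlinarith
    have b : -1 ≤ c := by by_contra hh; nlinarith
    omega
  rw [hc, this]; ring

theorem W_rest : W P (orb ⊤ H \ {H}) = 0 := by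
  rw [W_sdiff P (by simp [self_mem_orb]), W_singleton P h.hP, h.W_orbit]; ring

theorem change {σ : Subgroup G} (hσ : σ ∈ orb ⊤ H) {R : Sylow p G}
    (hR : (R : Subgroup G) ≤ σ) : Ctx p R σ := by
  refine ⟨h.below, h.top, h.pg_of_mem hσ, hR, h.ne_top_of_mem hσ, ?_⟩
  obtain ⟨g, -, rfl⟩ := mem_orb.1 hσ
  rw [N_cj]
  exact h.bad

theorem cover {K : Subgroup G} (hK : PG p K) (hne : K ≠ ⊤) (hs : HasSylow p K) :
    ∃ σ ∈ orb ⊤ H, K ≤ σ := by
  obtain ⟨R, hR⟩ := hs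
  obtain ⟨g, -, hg⟩ := exists_cj_sylow (Y := ⊤) (Q := P) (R := R) le_top le_top
  have hmem : cj g H ∈ orb ⊤ H := mem_orb.2 ⟨g, mem_top g, rfl⟩
  have h' : Ctx p R (cj g H) := h.change hmem (hg ▸ cj_mono g h.hP)
  by_contra hcon
  push Not at hcon
  have := W_nonneg R (h.below K hK hne) hR ((inv_orb ⊤ H).mono le_top) fun σ hσ => hcon σ hσ
  rw [← orb_eq_of_mem hmem] at this
  exact absurd this h'.W_neg.not_ge

theorem mx : Mx p H ⊤ := by
  refine ⟨h.pg, h.ne.lt_top, fun K hK hle hlt => ?_⟩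
  obtain ⟨σ, hσ, hKσ⟩ := h.cover hK hlt.ne ⟨P, h.hP.trans hle⟩
  exact le_antisymm (hKσ.trans (h.eq_of_le (self_mem_orb ⊤ H) hσ (hle.trans hKσ)).ge) hle

theorem hasSylow_pair {L : Subgroup G} (hL : L ∈ orb ⊤ H) (hne : L ≠ H) :
    HasSylow p (core p (H ⊓ L)) := by
  have hmem : L ∈ orb ⊤ H \ {H} := by simp [hL, hne]
  have h1 := W_orb_le P h.tt h.hP h.inv_rest (fun _ => h.not_le_rest) hmem
  rw [h.W_rest] at h1
  by_contra hcon
  rw [W_free P] at h1
  · have : (1 : ℤ) ≤ (orb H (core p (H ⊓ L))).card := by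
      exact_mod_cast Finset.card_pos.2 ⟨_, self_mem_orb _ _⟩
    have := two_le_p (p := p)
    nlinarith
  · intro σ hσ hPσ
    obtain ⟨y, -, rfl⟩ := mem_orb.1 hσ
    refine hcon ⟨y⁻¹ • P, ?_⟩
    rw [coe_smul_sylow]
    exact le_cj_iff.1 hPσ

theorem pair {L : Subgroup G} (hL : L ∈ orb ⊤ H) (hne : L ≠ H)
    (hPL : (P : Subgroup G) ≤ L) :
    Mx p (core p (H ⊓ L)) H ∧ W P (orb H (core p (H ⊓ L))) = 0 := by
  have hmem : L ∈ orb ⊤ H \ {H} := by simp [hL, hne]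
  have h1 := W_orb_le P h.tt h.hP h.inv_rest (fun _ => h.not_le_rest) hmem
  rw [h.W_rest] at h1
  have hlt : core p (H ⊓ L) < H := core_inf_lt (h.not_le_rest hmem)
  have h0 := le_antisymm h1 (W_orb_nonneg P h.tt h.hP hlt)
  refine ⟨mx_of_W_le P h.below h.pg h.ne (pg_core _) ?_ hlt ?_, h0⟩
  · rw [(pg_sylow P).le_core_iff]; exact le_inf h.hP hPL
  · rw [h0]; have := two_le_p (p := p); nlinarith

theorem exists_moved {σ : Subgroup G} (hσ : σ ∈ orb ⊤ H) :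
    ∃ (s : G) (k : ℕ), s ^ p ^ k = 1 ∧ cj s σ ≠ σ ∧ cj (s ^ p) σ = σ := by
  obtain ⟨x, k, hk, hx⟩ : ∃ (x : G) (k : ℕ), x ^ p ^ k = 1 ∧ cj x σ ≠ σ := by
    by_contra hcon
    push Not at hcon
    refine h.ne_top_of_mem hσ (top_le_iff.1 ?_)
    rw [← h.top, core, Subgroup.closure_le]
    rintro x ⟨-, k, hk⟩
    exact mem_of_cj_eq (h.hasSylow_of_mem hσ) hk (hcon x k hk)
  have hex : ∃ j, cj (x ^ p ^ j) σ = σ := ⟨k, by rw [hk, cj_one]⟩
  have hj0 : Nat.find hex ≠ 0 := fun e => by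
    have := Nat.find_spec hex
    rw [e] at this
    exact hx (by simpa using this)
  obtain ⟨i, hi⟩ := Nat.exists_eq_succ_of_ne_zero hj0
  refine ⟨x ^ p ^ i, k, ?_, Nat.find_min hex (by omega), ?_⟩
  · rw [← pow_mul, mul_comm, pow_mul, hk, one_pow]
  · have := Nat.find_spec hex
    rw [hi, pow_succ, pow_mul] at this
    exact this

end Ctx

end Cfsg.Agent.SylowFix
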