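import Cfsg.Agent.Lib.SylowFix.Field
import Cfsg.Agent.Lib.AutPSL.Main
import Cfsg.Agent.Lib.AutPSL.Out
import Cfsg.Agent.Lib.AutPSL.Conj
import Cfsg.Agent.Lib.AutPSL.Roots
import Cfsg.Agent.Lib.Forms.DicksonDihedral
import Cfsg.Agent.Lib.PSLOrderSpectrum.Main
import Cfsg.Agent.S0276

/-!
# Automorphisms of `PSL₂(q)` of `r`-power order fixing a Sylow `r`-subgroup
-/

set_option autoImplicit false
set_option linter.unusedSectionVars false
set_option linter.style.haveILetI false

namespace Cfsg.Agent.SylowFix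

open Matrix
open scoped MatrixGroups
open Cfsg.Agent.AutPSL.Basic Cfsg.Agent.AutPSL.Main Cfsg.Agent.AutPSL.Out Cfsg.Agent.AutPSL.Conj

variable {F : Type*} [Field F] [Fintype F]

local notation "PG" => Matrix.ProjectiveSpecialLinearGroup (Fin 2) F
local notation "M2" => Matrix (Fin 2) (Fin 2) F
local notation "π" => (QuotientGroup.mk' (Subgroup.center SL(2, F)) : SL(2, F) →* PG)

/-- Conjugation by a matrix with square determinant is inner. -/
theorem gAut_inner (g : GL (Fin 2) F) (hg : IsSquare ((g : M2).det)) :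
    ∃ u : PG, gAut g = MulAut.conj u := by
  obtain ⟨d, hd⟩ := hg
  have hdet0 : (g : M2).det ≠ 0 := ((Matrix.isUnit_iff_isUnit_det _).1 g.isUnit).ne_zero
  have hd0 : d ≠ 0 := fun e => hdet0 (by rw [hd, e, mul_zero])
  set a : Fˣ := Units.mk0 d⁻¹ (inv_ne_zero hd0) with ha
  set w : GL (Fin 2) F := sc a * g with hw
  have hdet : (w : M2).det = 1 := by
    rw [hw, Units.val_mul, Matrix.det_mul, sc_coe, Matrix.scalar_apply, Matrix.det_diagonal,
      Fin.prod_univ_two, ha, Units.val_mk0, hd]
    field_simp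
  set s : SL(2, F) := ⟨(w : M2), hdet⟩ with hs
  refine ⟨π s, ?_⟩
  rw [show gAut g = gAut w by rw [hw, map_mul, gAut_sc le_rfl, one_mul]]
  refine MulEquiv.ext fun x => ?_
  obtain ⟨t, rfl⟩ := QuotientGroup.mk'_surjective _ x
  rw [MulAut.conj_apply, ← map_inv, ← map_mul, ← map_mul]
  refine congrArg π (Subtype.ext ?_)
  show (w : M2) * (t : M2) * ((w⁻¹ : GL (Fin 2) F) : M2) = (w : M2) * (t : M2) * ((s⁻¹ : SL(2, F)) : M2)
  refine congrArg ((w : M2) * (t : M2) * ·) ((left_inv_eq_right_inv ?_ (Units.mul_inv w)).symm)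
  show ((s⁻¹ : SL(2, F)) : M2) * (s : M2) = 1
  exact congrArg Subtype.val (inv_mul_cancel s)

/-- A fixed element gives an equation between matrices. -/
theorem fixed_eq {g : GL (Fin 2) F} {σ : F ≃+* F} {α : MulAut PG} (hα : α = gAut g * fAut σ)
    (s : SL(2, F)) (hs : α (π s) = π s) :
    ∃ c : F, c * c = 1 ∧ (g : M2) * (s : M2).map σ = c • ((s : M2) * (g : M2)) := by
  rw [hα] at hs
  obtain ⟨c, hc⟩ := (mk_eq_mk_iff s (conjSL g (fieldSL σ s))).1 hs.symm
  rw [conjSL_coe, fieldSL_coe] at hc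
  have h2 := congrArg (· * (g : M2)) hc
  simp only [Units.inv_mul_cancel_right, Matrix.smul_mul] at h2
  have hd := congrArg Matrix.det h2
  rw [Matrix.det_smul, Matrix.det_mul, Matrix.det_mul, Fintype.card_fin,
    show ((s : M2).map σ).det = 1 from ((σ.toRingHom.map_det (s : M2)).symm.trans (by rw [s.prop, map_one])),
    s.prop, mul_one, one_mul] at hd
  refine ⟨c, ?_, h2⟩
  have hdet0 : (g : M2).det ≠ 0 := ((Matrix.isUnit_iff_isUnit_det _).1 g.isUnit).ne_zero
  have h : c ^ 2 * (g : M2).det = 1 * (g : M2).det := by rw [one_mul]; exact hd.symm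
  rw [← pow_two]
  exact mul_right_cancel₀ hdet0 h

/-- An inner automorphism stays inner after conjugation. -/
theorem inner_of_conj {K : Type*} [Group K] {α : MulAut K} (u : K)
    (h : ∃ g : K, MulAut.conj u⁻¹ * α * MulAut.conj u = MulAut.conj g) :
    ∃ g : K, α = MulAut.conj g := by
  obtain ⟨g, hg⟩ := h
  refine ⟨u * g * u⁻¹, ?_⟩
  rw [map_mul, map_mul, map_inv, ← hg, map_inv]
  group

/-- Fixing the unitriangular group. -/
theorem inner_of_fix_unitri {α : MulAut PG}
    (h : ∀ x ∈ (AutPSL.Roots.unitri (n := 2) (F := F)), α x = x) : ∃ u : PG, α = MulAut.conj u := by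
  obtain ⟨g, σ, hα⟩ := exists_decomp_two α
  have hu : ∀ b : F, ∃ c : F, (g : M2) * !![1, σ b; 0, 1] = c • (!![1, b; 0, 1] * (g : M2)) := fun b => by
    obtain ⟨c, -, e⟩ := fixed_eq hα (Classical.GL2.uniSL b) (h _ ⟨_, ⟨fun i j hij => by
      rw [Classical.GL2.coe_uniSL]; fin_cases i <;> fin_cases j <;> simp_all, fun i => by
      rw [Classical.GL2.coe_uniSL]; fin_cases i <;> simp⟩, rfl⟩)
    refine ⟨c, ?_⟩
    rwa [Classical.GL2.coe_uniSL, show (!![1, b; 0, 1] : M2).map σ = !![1, σ b; 0, 1] by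
      ext i j; fin_cases i <;> fin_cases j <;> simp] at e
  set A := (g : M2) with hA
  have h10 : A 1 0 = 0 := by
    obtain ⟨c, e⟩ := hu 1
    have e1 : A 1 0 = c * A 1 0 := by
      simpa [Matrix.mul_apply, Fin.sum_univ_two, Matrix.vecMul, vecHead, vecTail] using
        congrFun (congrFun e 1) 0
    have e0 : A 0 0 = c * (A 0 0 + A 1 0) := by
      simpa [Matrix.mul_apply, Fin.sum_univ_two, Matrix.vecMul, vecHead, vecTail] using
        congrFun (congrFun e 0) 0
    by_contra hne
    obtain rfl : c = 1 := mul_right_cancel₀ hne (by rw [one_mul]; exact e1.symm)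
    exact hne (by linear_combination -e0)
  have hdet : A.det = A 0 0 * A 1 1 := by rw [Matrix.det_fin_two, h10]; ring
  have hdet0 : A.det ≠ 0 := ((Matrix.isUnit_iff_isUnit_det _).1 g.isUnit).ne_zero
  have h00 : A 0 0 ≠ 0 := fun e => hdet0 (by rw [hdet, e, zero_mul])
  have key : ∀ b : F, A 0 0 * σ b = b * A 1 1 := fun b => by
    obtain ⟨c, e⟩ := hu b
    have e0 : A 0 0 = c * A 0 0 := by
      simpa [Matrix.mul_apply, Fin.sum_univ_two, Matrix.vecMul, vecHead, vecTail, h10] using
        congrFun (congrFun e 0) 0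
    obtain rfl : c = 1 := mul_right_cancel₀ h00 (by rw [one_mul]; exact e0.symm)
    have e1 : A 0 0 * σ b + A 0 1 = A 0 1 + b * A 1 1 := by
      simpa [Matrix.mul_apply, Fin.sum_univ_two, Matrix.vecMul, vecHead, vecTail] using
        congrFun (congrFun e 0) 1
    linear_combination e1
  have h11 : A 0 0 = A 1 1 := by
    have := key 1
    rwa [map_one, mul_one, one_mul] at this
  have hσ : σ = 1 := RingEquiv.ext fun b => by
    have := key b
    rw [← h11, mul_comm b] at this
    exact mul_left_cancel₀ h00 this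
  obtain ⟨u, hu⟩ := gAut_inner g ⟨A 0 0, by rw [← hA, hdet, ← h11]⟩
  exact ⟨u, by rw [hα, hσ, map_one, mul_one, hu]⟩

/-- The commutant of two anticommuting square roots of `-1` consists of scalars. -/
theorem det_square_of_commute {s u : M2} (h2 : (2 : F) ≠ 0)
    (hs : s 1 1 = -s 0 0) (hu : u 1 1 = -u 0 0)
    (hsd : s 0 0 * s 0 0 + s 0 1 * s 1 0 = -1) (hud : u 0 0 * u 0 0 + u 0 1 * u 1 0 = -1)
    (hsu : 2 * (s 0 0 * u 0 0) + s 0 1 * u 1 0 + s 1 0 * u 0 1 = 0)
    {M : M2} (hMs : M * s = s * M) (hMu : M * u = u * M) : IsSquare M.det := by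
  have ent : ∀ (v : M2) (i j : Fin 2), M * v = v * M →
      M i 0 * v 0 j + M i 1 * v 1 j = v i 0 * M 0 j + v i 1 * M 1 j := fun v i j e => by
    simpa [Matrix.mul_apply, Fin.sum_univ_two] using congrFun (congrFun e i) j
  set a := s 0 0
  set b := s 0 1
  set c := s 1 0
  set a' := u 0 0
  set b' := u 0 1
  set c' := u 1 0
  set d := M 0 0 - M 1 1 with hd
  set y := M 0 1
  set z := M 1 0
  have e1 : b * d = 2 * a * y := by
    have := ent s 0 1 hMs
    rw [hs] at this
    linear_combination this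
  have e2 : c * d = 2 * a * z := by
    have := ent s 1 0 hMs
    rw [hs] at this
    linear_combination -this
  have e3 : y * c = b * z := by
    have := ent s 0 0 hMs
    linear_combination this
  have f1 : b' * d = 2 * a' * y := by
    have := ent u 0 1 hMu
    rw [hu] at this
    linear_combination this
  have f2 : c' * d = 2 * a' * z := by
    have := ent u 1 0 hMu
    rw [hu] at this
    linear_combination -this
  have f3 : y * c' = b' * z := by
    have := ent u 0 0 hMu
    linear_combination this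
  set K := d * d + 4 * (y * z)
  have k1 : a * a * K = -(d * d) := by
    linear_combination (d * d) * hsd - c * d * e1 - 2 * a * y * e2
  have k2 : a' * a' * K = -(d * d) := by
    linear_combination (d * d) * hud - c' * d * f1 - 2 * a' * y * f2
  have k3 : 2 * (a * a' * K) = 0 := by
    linear_combination (d * d) * hsu - c' * d * e1 - 2 * a * y * f2 - b' * d * e2 - 2 * a * z * f1
  have hd0 : d = 0 := by
    have k4 : a * a' * K = 0 := (mul_eq_zero.1 k3).resolve_left h2
    have : (d * d) * (d * d) = 0 := by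
      linear_combination (d * d) * k1 - (a * a * K) * k2 + (a * a' * K) * k4
    simpa using this
  have hy : y = 0 := by
    by_contra hy
    have ha : a = 0 := by
      have : 2 * a * y = 0 := by rw [← e1, hd0, mul_zero]
      simpa [h2, hy] using this
    have ha' : a' = 0 := by
      have : 2 * a' * y = 0 := by rw [← f1, hd0, mul_zero]
      simpa [h2, hy] using this
    rw [ha, mul_zero, zero_add] at hsd
    rw [ha', mul_zero, zero_add] at hud
    rw [ha, ha'] at hsu
    have h5 : c * b' - b * c' = 0 := by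
      have : y * (c * b' - b * c') = 0 := by linear_combination b' * e3 - b * f3
      exact (mul_eq_zero.1 this).resolve_left hy
    have h6 : c * b' = 0 := by
      have : (2 : F) * (c * b') = 0 := by linear_combination hsu + h5
      exact (mul_eq_zero.1 this).resolve_left h2
    rcases mul_eq_zero.1 h6 with h7 | h7
    · rw [h7, mul_zero] at hsd
      exact one_ne_zero (neg_eq_zero.1 hsd.symm)
    · rw [h7, zero_mul] at hud
      exact one_ne_zero (neg_eq_zero.1 hud.symm)
  have hz : z = 0 := by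
    by_contra hz
    have ha : a = 0 := by
      have : 2 * a * z = 0 := by rw [← e2, hd0, mul_zero]
      simpa [h2, hz] using this
    rw [hy, zero_mul] at e3
    rw [ha, mul_zero, zero_add, (mul_eq_zero.1 e3.symm).resolve_right hz, zero_mul] at hsd
    exact one_ne_zero (neg_eq_zero.1 hsd.symm)
  refine ⟨M 0 0, ?_⟩
  rw [Matrix.det_fin_two, show M 1 0 = z from rfl, show M 0 1 = y from rfl, hy, hz,
    show M 1 1 = M 0 0 by linear_combination -hd0]
  ring

/-- Lifts of involutions. -/
theorem lift_invol (h2 : (2 : F) ≠ 0) {s : SL(2, F)} (hs : π s ≠ 1) (hs2 : π s * π s = 1) :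
    (s : M2) * (s : M2) = -1 ∧ (s : M2) 1 1 = -(s : M2) 0 0 := by
  rw [← map_mul] at hs2
  obtain ⟨c, hc⟩ := (mk_eq_one_iff (s * s)).1 hs2
  rw [Matrix.SpecialLinearGroup.coe_mul, sq_eq s] at hc
  have ht : (s : M2).trace = 0 := by
    by_contra ht
    refine hs ((mk_eq_one_iff s).2 ⟨(c + 1) * (s : M2).trace⁻¹, ?_⟩)
    have h : (s : M2).trace • (s : M2) = (c + 1) • (1 : M2) := by
      rw [add_smul, one_smul, ← hc, sub_add_cancel]
    rw [mul_comm, ← smul_smul, ← h, smul_smul, inv_mul_cancel₀ ht, one_smul]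
  refine ⟨by rw [sq_eq s, ht, zero_smul, zero_sub], ?_⟩
  rw [Matrix.trace_fin_two] at ht
  linear_combination ht

/-- The determinant of a matrix whose conjugation fixes a four-group is a square. -/
theorem det_square_of_fix_four (h2 : (2 : F) ≠ 0) {h : GL (Fin 2) F} {x y : PG} (hx1 : x ≠ 1) (hy1 : y ≠ 1)
    (hxy1 : x ≠ y) (hxx : x * x = 1) (hyy : y * y = 1) (hcomm : x * y = y * x)
    (hx : gAut h x = x) (hy : gAut h y = y) : IsSquare ((h : M2).det) := by
  obtain ⟨s, rfl⟩ := QuotientGroup.mk'_surjective _ x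
  obtain ⟨u, rfl⟩ := QuotientGroup.mk'_surjective _ y
  obtain ⟨hss, hs11⟩ := lift_invol h2 hx1 hxx
  obtain ⟨huu, hu11⟩ := lift_invol h2 hy1 hyy
  set S := (s : M2) with hS
  set U := (u : M2) with hU
  have hxy : π (s * u) ≠ 1 := fun e => hxy1 (by
    rw [map_mul] at e
    rw [eq_inv_of_mul_eq_one_left e, inv_eq_of_mul_eq_one_right hyy])
  have hxy2 : π (s * u) * π (s * u) = 1 := by
    rw [map_mul]
    calc π s * π u * (π s * π u) = π s * (π u * π s) * π u := by simp only [mul_assoc]
      _ = π s * (π s * π u) * π u := by rw [hcomm]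
      _ = (π s * π s) * (π u * π u) := by simp only [mul_assoc]
      _ = 1 := by rw [hxx, hyy, one_mul]
  obtain ⟨hsuu, hsu11⟩ := lift_invol h2 hxy hxy2
  rw [Matrix.SpecialLinearGroup.coe_mul, ← hS, ← hU] at hsuu hsu11
  have hanti : U * S = -(S * U) := by
    calc U * S = -((S * S) * (U * S)) := by rw [hss]; simp
      _ = -(S * ((S * U) * (S * U)) * (-U)) := by
        rw [show S * ((S * U) * (S * U)) * (-U) = -(S * S * (U * S) * (U * U)) by
          simp only [mul_assoc, mul_neg], huu]
        simp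
      _ = -(S * U) := by rw [hsuu]; simp
  have hsd : S 0 0 * S 0 0 + S 0 1 * S 1 0 = -1 := by
    simpa [Matrix.mul_apply, Fin.sum_univ_two] using congrFun (congrFun hss 0) 0
  have hud : U 0 0 * U 0 0 + U 0 1 * U 1 0 = -1 := by
    simpa [Matrix.mul_apply, Fin.sum_univ_two] using congrFun (congrFun huu 0) 0
  have hsud : 2 * (S 0 0 * U 0 0) + S 0 1 * U 1 0 + S 1 0 * U 0 1 = 0 := by
    have e : U 0 0 * S 0 0 + U 0 1 * S 1 0 = -(S 0 0 * U 0 0 + S 0 1 * U 1 0) := by
      simpa [Matrix.mul_apply, Fin.sum_univ_two] using congrFun (congrFun hanti 0) 0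
    linear_combination e
  have hfix : ∀ v : SL(2, F), gAut h (π v) = π v →
      (h : M2) * (v : M2) = (v : M2) * (h : M2) ∨ (h : M2) * (v : M2) = -((v : M2) * (h : M2)) := by
    intro v hv
    obtain ⟨c, hc, e⟩ := fixed_eq (g := h) (σ := 1) (α := gAut h) (by rw [map_one, mul_one]) v hv
    have e' : (h : M2) * (v : M2) = c • ((v : M2) * (h : M2)) := by
      rw [← e]
      congr 1
    rcases mul_self_eq_one_iff.1 hc with rfl | rfl
    · exact Or.inl (by rw [e', one_smul])
    · exact Or.inr (by rw [e', neg_smul, one_smul])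
  have hdetS : S.det = 1 := s.prop
  have hdetU : U.det = 1 := u.prop
  have main : ∀ W : M2, W.det = 1 → ((h : M2) * W) * S = S * ((h : M2) * W) →
      ((h : M2) * W) * U = U * ((h : M2) * W) → IsSquare ((h : M2).det) := fun W hW a b => by
    have := det_square_of_commute h2 hs11 hu11 hsd hud hsud a b
    rwa [Matrix.det_mul, hW, mul_one] at this
  rcases hfix s hx with hs | hs <;> rcases hfix u hy with hu | hu <;> rw [← hS] at hs <;> rw [← hU] at hu
  · exact main 1 Matrix.det_one (by rw [mul_one, hs]) (by rw [mul_one, hu])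
  · refine main S hdetS ?_ ?_
    · rw [← mul_assoc S, ← hs]
    · rw [mul_assoc, ← neg_eq_iff_eq_neg.2 hanti, mul_neg, ← mul_assoc, hu, neg_mul, neg_neg, mul_assoc]
  · refine main U hdetU ?_ ?_
    · rw [mul_assoc, hanti, mul_neg, ← mul_assoc, hs, neg_mul, neg_neg, mul_assoc]
    · rw [← mul_assoc U, ← hu]
  · refine main (S * U) (by rw [Matrix.det_mul, hdetS, hdetU, one_mul]) ?_ ?_
    · rw [mul_assoc (h : M2), mul_assoc S U S, hanti, mul_neg, mul_neg, ← mul_assoc (h : M2), hs, neg_mul,
        neg_neg, mul_assoc]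
    · rw [← mul_assoc U (h : M2), show U * (h : M2) = -((h : M2) * U) by rw [hu, neg_neg], neg_mul,
        mul_assoc (h : M2) U, ← mul_assoc U S U, hanti, neg_mul, mul_neg, neg_neg, mul_assoc (h : M2)]

/-- The automorphisms in question are inner. -/
theorem psl_two_inner (hq : 3 < Fintype.card F)
    (h8 : Fintype.card F % 8 = 0 ∨ Fintype.card F % 8 = 3 ∨ Fintype.card F % 8 = 5) (r : ℕ)
    [Fact r.Prime] (hr : r ∣ Nat.card PG) (α : MulAut PG) (k : ℕ) (hα : orderOf α = r ^ k)
    (R : Sylow r PG) (hR : ∀ x ∈ (R : Subgroup PG), α x = x) : ∃ u : PG, α = MulAut.conj u := by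
  classical
  have hrp : r.Prime := Fact.out
  by_cases hrq : r ∣ Fintype.card F
  · -- the defining characteristic
    obtain ⟨p, hp⟩ := CharP.exists F
    obtain ⟨n, hpp, hn⟩ := FiniteField.card F p
    obtain rfl : r = p := (Nat.prime_dvd_prime_iff_eq hrp hpp).1 (hrp.dvd_of_dvd_pow (hn ▸ hrq))
    obtain ⟨P, hP⟩ := AutPSL.Roots.exists_sylow_eq (F := F) (n := 2) r (by norm_num)
    obtain ⟨w, hw⟩ := MulAction.exists_smul_eq PG P R
    refine inner_of_conj w (inner_of_fix_unitri fun x hx => ?_)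
    have h1 : w * x * w⁻¹ ∈ (R : Subgroup PG) := by
      rw [← hw, Sylow.coe_subgroup_smul]
      exact ⟨x, hP.symm ▸ hx, rfl⟩
    simp only [MulAut.mul_apply, MulAut.conj_apply, hR _ h1]
    group
  have hcard := PSLOrderSpectrum.card_psl_two (F := F)
  set q := Fintype.card F with hqd
  set dd := Nat.gcd 2 (q - 1) with hdd
  obtain ⟨g, σ, hασ⟩ := exists_decomp_two α
  by_cases hrn : r ∣ orderOf σ
  · exfalso
    rcases eq_or_ne r 2 with rfl | hr2
    · -- the field would have square order
      obtain ⟨K, _, hK, -⟩ := exists_fixed σ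
      obtain ⟨m, hm⟩ := hrn
      have hsq : q = (Fintype.card K ^ m) * (Fintype.card K ^ m) := by
        rw [← pow_add, ← two_mul, ← hm]; exact hK
      set j := Fintype.card K ^ m
      have hmod : j % 8 < 8 := Nat.mod_lt _ (by norm_num)
      have := Nat.mul_mod j j 8
      rw [← hsq] at this
      interval_cases h : j % 8 <;> omega
    · -- the trace lies in a proper subfield
      have hrodd : ¬ r ∣ 2 := fun h => hr2 ((Nat.prime_dvd_prime_iff_eq hrp Nat.prime_two).1 h)
      have hd2 : dd ∣ q + 1 := by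
        have h2 : dd ∣ (q - 1) + 2 := Nat.dvd_add (Nat.gcd_dvd_right _ _) (Nat.gcd_dvd_left _ _)
        rwa [show q - 1 + 2 = q + 1 by omega] at h2
      have hrdd : ¬ r ∣ dd := fun h => hrodd (h.trans (Nat.gcd_dvd_left _ _))
      have hrq1 : r ∣ (q - 1) * (q + 1) := by
        have : r ∣ dd * Nat.card PG := Dvd.dvd.mul_left hr _
        rw [hcard] at this
        exact (hrp.dvd_mul.1 this).resolve_left hrq
      -- a torus element
      obtain ⟨c, N, hc, hN, hrN, hother⟩ : ∃ (c : PG) (N : ℕ), orderOf c = N ∧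
          ((q - 1 = dd * N ∧ ¬ r ∣ q + 1) ∨ (q + 1 = dd * N ∧ ¬ r ∣ q - 1)) ∧ r ∣ N ∧ True := by
        have hboth : ¬ (r ∣ q - 1 ∧ r ∣ q + 1) := fun ⟨h1, h2⟩ => hrodd (by
          have := Nat.dvd_sub h2 h1
          rwa [show q + 1 - (q - 1) = 2 by omega] at this)
        rcases hrp.dvd_mul.1 hrq1 with h | h
        · obtain ⟨_, -, -, c, -, -, -, hc, -⟩ := Forms.DicksonDihedral.exists_minus (F := F)
          refine ⟨c, _, hc, Or.inl ⟨(Nat.mul_div_cancel' (Nat.gcd_dvd_right _ _)).symm, fun h2 => hboth ⟨h, h2⟩⟩,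
            ?_, trivial⟩
          exact ((hrp.dvd_mul.1 ((Nat.mul_div_cancel' (Nat.gcd_dvd_right 2 (q - 1))).symm ▸ h)).resolve_left hrdd)
        · obtain ⟨_, -, -, c, -, -, -, hc, -⟩ := Forms.DicksonDihedral.exists_plus (F := F)
          refine ⟨c, _, hc, Or.inr ⟨(Nat.mul_div_cancel' hd2).symm, fun h2 => hboth ⟨h2, h⟩⟩, ?_, trivial⟩
          exact ((hrp.dvd_mul.1 ((Nat.mul_div_cancel' hd2).symm ▸ h)).resolve_left hrdd)
      have hN0 : N ≠ 0 := hc ▸ (orderOf_pos c).ne'
      set e := N.factorization r with he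
      have he1 : 1 ≤ e := hrp.factorization_pos_of_dvd hN0 hrN
      have hre : r ^ e ∣ N := Nat.ordProj_dvd N r
      set x := c ^ (N / r ^ e) with hx
      have hxo : orderOf x = r ^ e := by
        rw [hx, ← hc]
        exact orderOf_pow_orderOf_div (orderOf_pos c).ne' (hc ▸ hre)
      obtain ⟨S, hS⟩ := (IsPGroup.of_card (G := Subgroup.zpowers x) (n := e)
        (by rw [Nat.card_zpowers, hxo])).exists_le_sylow
      obtain ⟨w, hw⟩ := MulAction.exists_smul_eq PG S R
      have hy : w * x * w⁻¹ ∈ (R : Subgroup PG) := by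
        rw [← hw, Sylow.coe_subgroup_smul]
        exact ⟨x, hS (Subgroup.mem_zpowers x), rfl⟩
      obtain ⟨s, hs⟩ := QuotientGroup.mk'_surjective _ (w * x * w⁻¹)
      obtain ⟨cc, hcc, heq⟩ := fixed_eq hασ s (by rw [hs]; exact hR _ hy)
      have htr : σ (s : M2).trace = cc * (s : M2).trace := by
        have h1 : (g : M2) * (s : M2).map σ * ((g⁻¹ : GL (Fin 2) F) : M2) = cc • (s : M2) := by
          rw [heq, Matrix.smul_mul, Units.mul_inv_cancel_right]
        have h3 := congrArg Matrix.trace h1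
        rw [Matrix.trace_units_conj, Matrix.trace_smul, smul_eq_mul] at h3
        rw [← h3]
        simp [Matrix.trace_fin_two]
      have hσc : σ cc = cc := by
        rcases mul_self_eq_one_iff.1 hcc with rfl | rfl <;> simp
      have hfix2 : (σ ^ 2) (s : M2).trace = (s : M2).trace := by
        rw [pow_two, show (σ * σ) (s : M2).trace = σ (σ (s : M2).trace) from rfl, htr, map_mul, hσc, htr,
          ← mul_assoc, hcc, one_mul]
      obtain ⟨K, _, hK, hKmem⟩ := exists_fixed (σ ^ 2)
      have hrn2 : r ∣ orderOf (σ ^ 2) := by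
        refine ((Nat.Prime.coprime_iff_not_dvd hrp).2 hrodd).dvd_of_dvd_mul_right ?_
        refine hrn.trans (orderOf_dvd_of_pow_eq_one ?_)
        rw [mul_comm, pow_mul, pow_orderOf_eq_one]
      have hord : r ^ e ∣ Fintype.card K * ((Fintype.card K - 1) * (Fintype.card K + 1)) := by
        refine dvd_trans ?_ (orderOf_dvd_of_trace K s (hKmem _ hfix2))
        have h1 : orderOf (π s) = r ^ e := by rw [hs, ← hxo]; exact (MulAut.conj w).orderOf_eq x
        exact h1 ▸ orderOf_map_dvd π s
      set q0 := Fintype.card K with hq0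
      have hq01 : 1 < q0 := Fintype.one_lt_card
      have hrq0 : ¬ r ∣ q0 := fun h => hrq (by
        rw [show q = q0 ^ orderOf (σ ^ 2) from hK]
        haveI : Finite (F ≃+* F) := Finite.of_injective _ DFunLike.coe_injective
        exact h.trans (dvd_pow_self _ (orderOf_pos (σ ^ 2)).ne'))
      have hrQ : r ^ e ∣ q0 ^ 2 - 1 := by
        have h1 := (Nat.Coprime.pow_left e ((Nat.Prime.coprime_iff_not_dvd hrp).2 hrq0)).dvd_of_dvd_mul_left hord
        rwa [show (q0 - 1) * (q0 + 1) = q0 ^ 2 - 1 by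
          rw [mul_comm, ← Nat.sq_sub_sq, one_pow]] at h1
      have hbig : r ^ (e + 1) ∣ (q - 1) * (q + 1) := by
        have h1 := mul_dvd_pow_sub_one (n := orderOf (σ ^ 2)) (Nat.one_le_pow _ _ (by omega))
          ((dvd_pow_self r (by omega : e ≠ 0)).trans hrQ) hrn2
        rw [← pow_mul, mul_comm 2, pow_mul, ← hK] at h1
        rw [show (q - 1) * (q + 1) = q ^ 2 - 1 by rw [mul_comm, ← Nat.sq_sub_sq, one_pow], pow_succ]
        exact (Nat.mul_dvd_mul_right hrQ r).trans h1
      have hrN1 : r ^ (e + 1) ∣ N := by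
        have hco : ∀ {z : ℕ}, ¬ r ∣ z → (r ^ (e + 1)).Coprime z := fun h =>
          Nat.Coprime.pow_left _ ((Nat.Prime.coprime_iff_not_dvd hrp).2 h)
        refine (hco hrdd).dvd_of_dvd_mul_left ?_
        rcases hN with ⟨h1, h2⟩ | ⟨h1, h2⟩ <;> rw [← h1]
        · exact (hco h2).dvd_of_dvd_mul_right hbig
        · exact (hco h2).dvd_of_dvd_mul_left hbig
      have := (hrp.pow_dvd_iff_le_factorization hN0).1 hrN1
      omega
  · -- inner-diagonal
    obtain ⟨h, hh⟩ : ∃ h : GL (Fin 2) F, α = gAut h := by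
      obtain ⟨m, hm⟩ := exists_pow_eq_self_of_coprime (x := α) (n := orderOf σ)
        (by rw [hα]; exact Nat.Coprime.pow_right k ((Nat.Prime.coprime_iff_not_dvd hrp).2 hrn).symm)
      refine ⟨AutPSL.Speiser.twist σ g (orderOf σ) ^ m, ?_⟩
      rw [← hm, hασ, pow_gAut_fAut, pow_orderOf_eq_one, map_one, mul_one, ← map_pow]
    rcases eq_or_ne r 2 with rfl | hr2
    · -- the four-group
      have hodd : Odd q := Nat.odd_iff.2 (Nat.two_dvd_ne_zero.1 hrq)
      have h2 : (2 : F) ≠ 0 := Classical.SylowSL2.two_ne_zero_of_odd hodd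
      haveI : IsKleinFour (R : Subgroup PG) :=
        S0276.result (F := F) rfl (by rcases h8 with h | h | h <;> omega) R
      set R' := (R : Subgroup PG) with hR'
      have hcard4 : Nat.card R' = 4 := IsKleinFour.card_four
      have hsq : ∀ a : R', a * a = 1 := fun a => by
        rw [← pow_two, ← orderOf_dvd_iff_pow_eq_one]
        exact (Monoid.order_dvd_exponent a).trans (dvd_of_eq IsKleinFour.exponent_two)
      haveI : Nontrivial R' := Finite.one_lt_card_iff_nontrivial.1 (by omega)
      obtain ⟨a, ha⟩ := exists_ne (1 : R')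
      obtain ⟨b, hb⟩ : ∃ b : R', b ∉ Subgroup.zpowers a := by
        by_contra hall
        push Not at hall
        have h1 : Subgroup.zpowers a = ⊤ := (Subgroup.eq_top_iff' _).2 hall
        have h2' := Nat.card_zpowers a
        rw [h1, Subgroup.card_top, hcard4] at h2'
        have h3 : orderOf a ∣ 2 := orderOf_dvd_of_pow_eq_one (by rw [pow_two]; exact hsq a)
        rw [← h2'] at h3
        norm_num at h3
      have hb1 : b ≠ 1 := fun e => hb (e ▸ Subgroup.one_mem _)
      have hcomm : a * b = b * a := by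
        have hi : ∀ c : R', c⁻¹ = c := fun c => inv_eq_of_mul_eq_one_right (hsq c)
        rw [← hi (a * b), _root_.mul_inv_rev, hi, hi]
      obtain ⟨u, hu⟩ := gAut_inner h (det_square_of_fix_four h2 (x := (a : PG)) (y := (b : PG))
        (fun e => ha (Subtype.ext e)) (fun e => hb1 (Subtype.ext e))
        (fun e => hb (Subtype.ext e ▸ Subgroup.mem_zpowers a))
        (congrArg Subtype.val (hsq a)) (congrArg Subtype.val (hsq b)) (congrArg Subtype.val hcomm)
        (hh ▸ hR _ a.2) (hh ▸ hR _ b.2))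
      exact ⟨u, hh.trans hu⟩
    · obtain ⟨m, hm⟩ := exists_pow_eq_self_of_coprime (x := α) (n := 2)
        (by rw [hα]; exact Nat.Coprime.pow_right k ((Nat.coprime_primes Nat.prime_two hrp).2 hr2.symm))
      obtain ⟨u, hu⟩ := gAut_inner ((h ^ 2) ^ m) ⟨(h : M2).det ^ m, by
        rw [Units.val_pow_eq_pow_val, Units.val_pow_eq_pow_val, Matrix.det_pow, Matrix.det_pow,
          ← mul_pow, ← pow_two]⟩
      exact ⟨u, by rw [← hu, map_pow, map_pow, ← hh, hm]⟩

end Cfsg.Agent.SylowFix
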