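import Cfsg.Agent.Lib.SylowFix.PSLTwo
import Cfsg.Agent.Lib.J1Aut.Aut
import Cfsg.Prelude.Def_Spor_J1

/-!
# Automorphisms fixing a Sylow subgroup of a simple group with abelian Sylow subgroups

Given the list `J₁`, `PSL₂(q)` with `q ≡ 0, 3, 5 (mod 8)`, an automorphism of `r`-power order fixing a
Sylow `r`-subgroup pointwise is inner.
-/

set_option autoImplicit false
set_option linter.unusedSectionVars false
set_option linter.style.haveILetI false

namespace Cfsg.Agent.SylowFix

/-- Transport along an isomorphism. -/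
theorem inner_of_equiv {G K : Type*} [Group G] [Group K] (e : G ≃* K) (α : G ≃* G)
    (h : ∃ u : K, (e.symm.trans (α.trans e) : MulAut K) = MulAut.conj u) :
    ∃ g : G, ∀ x : G, α x = g * x * g⁻¹ := by
  obtain ⟨u, hu⟩ := h
  refine ⟨e.symm u, fun x => e.injective ?_⟩
  have h1 := DFunLike.congr_fun hu (e x)
  simpa using h1

/-- The automorphism is inner, given the shape of the group. -/
theorem inner_of_shape {G : Type*} [Group G] [Finite G]
    (hshape : Cfsg.Spor.IsoJ1 G ∨
      ∃ (F : Type) (_ : Field F) (_ : Fintype F), 3 < Fintype.card F ∧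
        (Fintype.card F % 8 = 0 ∨ Fintype.card F % 8 = 3 ∨ Fintype.card F % 8 = 5) ∧
        Nonempty (G ≃* Matrix.ProjectiveSpecialLinearGroup (Fin 2) F))
    (r : ℕ) [Fact r.Prime] (hr : r ∣ Nat.card G) (α : G ≃* G) (k : ℕ) (hα : orderOf α = r ^ k)
    (R : Sylow r G) (hR : ∀ x ∈ (R : Subgroup G), α x = x) :
    ∃ g : G, ∀ x : G, α x = g * x * g⁻¹ := by
  rcases hshape with ⟨⟨e⟩⟩ | ⟨F, _, _, h3, h8, ⟨e⟩⟩
  · obtain ⟨u, hu⟩ := Cfsg.Agent.Lib.J1Aut.Aut.aut_inner (e.symm.trans (α.trans e))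
    exact inner_of_equiv e α ⟨u, hu.symm⟩
  · refine inner_of_equiv e α (psl_two_inner h3 h8 r (Nat.card_congr e.toEquiv ▸ hr) _ k ?_
      (R.comapOfInjective e.symm.toMonoidHom e.symm.injective (by
        rw [MonoidHom.range_eq_top.2 e.symm.surjective]; exact le_top)) ?_)
    · exact ((MulAut.congr e).orderOf_eq α).trans hα
    · intro x hx
      have h1 := hR (e.symm x) hx
      show e (α (e.symm x)) = x
      rw [h1, MulEquiv.apply_symm_apply]

end Cfsg.Agent.SylowFix
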