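import Cfsg.Agent.Lib.SylowFix.Node

/-!
# No counterexample for the primes 2 and 3
-/

set_option autoImplicit false
set_option linter.unusedSectionVars false

open scoped Classical
open Subgroup

namespace Cfsg.Agent.SylowFix

variable {G : Type*} [Group G] [Finite G] {p : ℕ} [Fact p.Prime] {P : Sylow p G}

theorem W_orb_erase {Y Q : Subgroup G} (hP : (P : Subgroup G) ≤ Q) :
    W P (orb Y Q \ {Q}) = W P (orb Y Q) + p := by
  rw [W_sdiff P (by simp [self_mem_orb]), W_singleton P hP]; ring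

theorem inv_orb_erase {Y Q : Subgroup G} (hQ : Q ≤ Y) : Inv Q (orb Y Q \ {Q}) :=
  ((inv_orb Y Q).mono hQ).sdiff (inv_singleton le_rfl)

theorem not_le_orb_erase {Y Q σ : Subgroup G} (hσ : σ ∈ orb Y Q \ {Q}) : ¬ Q ≤ σ := fun h => by
  rw [Finset.mem_sdiff, Finset.mem_singleton] at hσ
  exact hσ.2 (eq_of_le_of_card_le h (card_of_mem_orb hσ.1).le).symm

theorem D_core_inf (K τ : Subgroup G) : D p K (core p (K ⊓ τ)) = D p K τ := by
  rw [D, D, inf_eq_right.2 (core_inf_le_left K τ), N_core]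

theorem W_orb_pos {K τ : Subgroup G} (hP : (P : Subgroup G) ≤ K) (h : 0 < D p K τ) :
    0 < W P (orb K (core p (K ⊓ τ))) := by
  refine pos_of_mul_pos_right ?_ (N_pos_of_le hP).le
  rw [N_mul_W_orb P hP, D_core_inf]
  exact mul_pos (by exact_mod_cast Finset.card_pos.2 ⟨_, self_mem_orb _ _⟩) h

namespace Ctx

variable {H : Subgroup G}

theorem false_of_two (h : Ctx p P H) (hp : p = 2) : False := by
  obtain ⟨s, k, hk, hs, hs2⟩ := h.exists_moved (self_mem_orb ⊤ H)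
  rw [hp, pow_two] at hs2
  have hmem : cj s H ∈ orb ⊤ H := mem_orb.2 ⟨s, mem_top s, rfl⟩
  have hS := h.hasSylow_pair hmem hs
  have hfix : cj s (core p (H ⊓ cj s H)) = core p (H ⊓ cj s H) := by
    rw [cj_core, cj_inf, ← cj_mul, hs2, inf_comm]
  exact hs (cj_eq_self (core_inf_le_left _ _ (mem_of_cj_eq hS hk hfix)))

/-- the intersection of two members lies in no third member -/
theorem lines (h : Ctx p P H) (h3 : 3 ≤ p) {L M : Subgroup G} (hL : L ∈ orb ⊤ H) (hne : L ≠ H)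
    (hPL : (P : Subgroup G) ≤ L) (hM : M ∈ orb ⊤ H) (hQM : core p (H ⊓ L) ≤ M) :
    M = H ∨ M = L := by
  by_contra hcon
  push Not at hcon
  obtain ⟨hMH, hML⟩ := hcon
  have hp3 : (3 : ℤ) ≤ p := by exact_mod_cast h3
  obtain ⟨hQ, hQ0⟩ := h.pair hL hne hPL
  set Q := core p (H ⊓ L) with hQdef
  have hPQ : (P : Subgroup G) ≤ Q := (le_core_inf_iff (pg_sylow P)).2 ⟨h.hP, hPL⟩
  have hQt : Q ≠ ⊤ := ne_top_of_lt_of_le hQ.lt le_rfl
  have ttQ : TT p Q := h.below Q hQ.pg hQt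
  have hno := fun σ (hσ : σ ∈ orb H Q \ {Q}) => not_le_orb_erase hσ
  have hall : AllSylow p (orb H Q \ {Q}) := fun σ hσ =>
    allSylow_orb ⟨P, hPQ⟩ σ (Finset.mem_sdiff.1 hσ).1
  have hW : W P (orb H Q \ {Q}) = p := by rw [W_orb_erase hPQ, hQ0, zero_add]
  obtain ⟨τ0, hτ0, hD0⟩ : ∃ τ ∈ orb H Q \ {Q}, 0 < D p Q τ := by
    by_contra hh
    push Not at hh
    have e := N_mul_W P hPQ (inv_orb_erase hQ.lt.le)
    rw [hW] at e
    have := Finset.sum_nonpos hh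
    nlinarith [N_pos_of_le hPQ]
  obtain ⟨q, hq, hPτ⟩ := exists_le_cj_of_small P ttQ hPQ (inv_orb_erase hQ.lt.le) hall hno
    (by rw [hW]; nlinarith) hτ0
  have hτ : cj q τ0 ∈ orb H Q \ {Q} := inv_orb_erase hQ.lt.le q hq τ0 hτ0
  have hDτ : 0 < D p Q (cj q τ0) := by rwa [D_cj hq]
  set τ := cj q τ0
  set X := core p (Q ⊓ τ) with hXdef
  have hPX : (P : Subgroup G) ≤ X := (le_core_inf_iff (pg_sylow P)).2 ⟨hPQ, hPτ⟩
  have hτQ : τ ≠ Q := fun e => (Finset.mem_sdiff.1 hτ).2 (Finset.mem_singleton.2 e)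
  have hQτ : ¬ Q ≤ τ := hno τ hτ
  have hcard : Nat.card τ = Nat.card Q := card_of_mem_orb (Finset.mem_sdiff.1 hτ).1
  have hτle : ¬ τ ≤ Q := fun e => hτQ (eq_of_le_of_card_le e hcard.ge)
  obtain ⟨g, hg, hgτ⟩ := mem_orb.1 (Finset.mem_sdiff.1 hτ).1
  -- the third line
  set L' := cj g L with hL'def
  have hL' : L' ∈ orb ⊤ H := inv_orb ⊤ H g (mem_top g) L hL
  have hτL' : core p (H ⊓ L') = τ := by rw [hL'def, core_inf_cj hg, ← hQdef, hgτ]
  have hL'H : L' ≠ H := fun e => hne (cj_injective g (by rw [← hL'def, e, cj_eq_self hg]))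
  have hL'L : L' ≠ L := fun e => hτQ (by rw [← hτL', e])
  have hHM : core p (H ⊓ M) = Q :=
    hQ.eq' (pg_core _) ((le_core_inf_iff hQ.pg).2 ⟨hQ.lt.le, hQM⟩) (core_inf_le_left _ _)
      fun e => hMH (h.eq_of_le (self_mem_orb ⊤ H) hM (e ▸ core_inf_le_right H M)).symm
  have hL'M : L' ≠ M := fun e => hτQ (by rw [← hτL', e, hHM])
  have hτle' : τ ≤ L' := hτL' ▸ core_inf_le_right H L'
  have h' : Ctx p P L' := h.change hL' (hPτ.trans hτle')
  have hor : orb ⊤ L' = orb ⊤ H := orb_eq_of_mem hL'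
  obtain ⟨hτmx, hτ0'⟩ := h'.pair (L := H) (hor ▸ self_mem_orb ⊤ H) hL'H.symm h.hP
  rw [inf_comm, hτL'] at hτmx hτ0'
  have ttτ : TT p τ := h.below τ hτmx.pg (ne_top_of_lt_of_le hτmx.lt le_rfl)
  -- the weight of X in τ
  have horbH : orb H τ = orb H Q := orb_eq_of_mem (Finset.mem_sdiff.1 hτ).1
  have hτH : τ ≤ H := hτL' ▸ core_inf_le_left H L'
  have hQmem : Q ∈ orb H τ \ {τ} :=
    Finset.mem_sdiff.2 ⟨horbH ▸ self_mem_orb H Q, fun e => hτQ (Finset.mem_singleton.1 e).symm⟩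
  have hwle : W P (orb τ X) ≤ p := by
    have := W_orb_le P ttτ hPτ (inv_orb_erase (Y := H) hτH) (fun _ => not_le_orb_erase) hQmem
    rwa [W_orb_erase hPτ, horbH, hQ0, zero_add, inf_comm, ← hXdef] at this
  have hXlt : X < τ := by
    rw [hXdef, inf_comm]; exact core_inf_lt hτle
  have hDτQ : 0 < D p τ Q := by
    have e : D p τ Q = D p Q τ := by
      rw [D, D, inf_comm, show N p τ = N p Q by rw [← hgτ, N_cj]]
    rwa [e]
  have hwpos : 0 < W P (orb τ X) := by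
    rw [hXdef, inf_comm]; exact W_orb_pos hPτ hDτQ
  obtain ⟨c, hc⟩ := dvd_W P hPτ (inv_orb τ X) (allSylow_orb ⟨P, hPX⟩)
  have hw : W P (orb τ X) = p := by
    have : 0 < c := by by_contra hh; nlinarith
    nlinarith
  have hXmx : Mx p X τ := mx_of_W_le P h.below hτmx.pg (ne_top_of_lt_of_le hτmx.lt le_rfl)
    (pg_core _) hPX hXlt (by nlinarith)
  -- the atoms of `L'`
  have atom : ∀ M' ∈ orb ⊤ H, M' ≠ L' → Q ≤ M' → ¬ τ ≤ M' →
      core p (L' ⊓ M') ∈ orb L' τ \ {τ} ∧ core p (τ ⊓ core p (L' ⊓ M')) = X := by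
    intro M' hM' hne' hQM' hτM'
    have hPM' : (P : Subgroup G) ≤ M' := hPQ.trans hQM'
    obtain ⟨hZ, hZ0⟩ := h'.pair (hor ▸ hM') hne' hPM'
    have hXZ : X ≤ core p (L' ⊓ M') := (le_core_inf_iff (pg_core _)).2
      ⟨(core_inf_le_right Q τ).trans hτle', (core_inf_le_left Q τ).trans hQM'⟩
    have hτZ : ¬ τ ≤ core p (L' ⊓ M') := fun e => hτM' (e.trans (core_inf_le_right _ _))
    have hX2 : core p (τ ⊓ core p (L' ⊓ M')) = X := hXmx.eq_of_le _ (pg_core _)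
      ((le_core_inf_iff (pg_core _)).2 ⟨core_inf_le_right Q τ, hXZ⟩) (core_inf_lt hτZ)
    set Z := core p (L' ⊓ M')
    refine ⟨?_, hX2⟩
    by_contra hh
    have hnot : ∀ σ ∈ orb L' Z, ¬ τ ≤ σ := by
      intro σ hσ hτσ
      have hσlt : σ < L' := lt_of_le_of_ne (orb_le hZ.lt.le hσ) fun e =>
        (card_lt_of_lt hZ.lt).ne' (e ▸ card_of_mem_orb hσ)
      obtain ⟨y, hy, hyσ⟩ := mem_orb.1 hσ
      have he : σ = τ := hτmx.eq_of_le σ (hyσ ▸ hZ.pg.cj y) hτσ hσlt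
      refine hh (Finset.mem_sdiff.2 ⟨?_, fun e => hτZ (Finset.mem_singleton.1 e).ge⟩)
      rw [← he, orb_eq_of_mem hσ]
      exact self_mem_orb L' Z
    have := W_orb_le P ttτ hPτ ((inv_orb L' Z).mono hτle') hnot (self_mem_orb L' Z)
    rw [hX2, hZ0, hw] at this
    omega
  have hτL : ¬ τ ≤ L := fun e => hτle ((le_core_inf_iff hτmx.pg).2 ⟨hτH, e⟩)
  have hτM : ¬ τ ≤ M := fun e => hτle (hHM ▸ (le_core_inf_iff hτmx.pg).2 ⟨hτH, e⟩)
  obtain ⟨hZL, hXL⟩ := atom L hL hL'L.symm (core_inf_le_right H L) hτL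
  obtain ⟨hZM, hXM⟩ := atom M hM hL'M.symm hQM hτM
  have hdist : core p (L' ⊓ L) ≠ core p (L' ⊓ M) := by
    intro e
    have hc : Ctx p P L := h.change hL hPL
    have hoL : orb ⊤ L = orb ⊤ H := orb_eq_of_mem hL
    obtain ⟨hQmx, -⟩ := hc.pair (L := H) (hoL ▸ self_mem_orb ⊤ H) hne.symm h.hP
    rw [inf_comm, ← hQdef] at hQmx
    obtain ⟨hZmx, -⟩ := hc.pair (hoL ▸ hL') hL'L (hPτ.trans hτle')
    rw [inf_comm] at hZmx
    have hLM : core p (L ⊓ M) = Q :=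
      hQmx.eq' (pg_core _) ((le_core_inf_iff hQ.pg).2 ⟨hQmx.lt.le, hQM⟩) (core_inf_le_left _ _)
        fun e' => hML (h.eq_of_le hL hM (e' ▸ core_inf_le_right L M)).symm
    have hZQ : core p (L' ⊓ L) ≤ Q := hLM ▸ (le_core_inf_iff (pg_core _)).2
      ⟨core_inf_le_right L' L, e ▸ core_inf_le_right L' M⟩
    have hQeq : Q = core p (L' ⊓ L) := hZmx.eq_of_le Q hQ.pg hZQ hQmx.lt
    exact hQτ (hτL' ▸ (le_core_inf_iff hQ.pg).2 ⟨hQ.lt.le, hQeq ▸ core_inf_le_left L' L⟩)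
  have := two_mul_W_orb_le P ttτ hPτ (inv_orb_erase hτle') (fun _ => not_le_orb_erase) hZL hZM
    hdist hXL hXM
  rw [W_orb_erase hPτ, hτ0', hw] at this
  omega

theorem false_of_three (h : Ctx p P H) (hp : p = 3) : False := by
  obtain ⟨s, k, hk, hs, hs3⟩ := h.exists_moved (self_mem_orb ⊤ H)
  rw [hp, pow_succ', pow_two, cj_mul, cj_mul] at hs3
  set τ := cj s H with hτdef
  set ρ := cj s τ with hρdef
  have hρH : ρ ≠ H := fun e => hs (by rw [e, ← hτdef] at hs3; exact hs3)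
  have hρτ : ρ ≠ τ := fun e => hs (cj_injective s e)
  have hτ : τ ∈ orb ⊤ H := mem_orb.2 ⟨s, mem_top s, rfl⟩
  have hρ : ρ ∈ orb ⊤ H := inv_orb ⊤ H s (mem_top s) τ hτ
  obtain ⟨R, hR⟩ := h.hasSylow_pair hτ hs
  have c : Ctx p R H := h.change (self_mem_orb ⊤ H) (hR.trans (core_inf_le_left _ _))
  obtain ⟨hQ, -⟩ := c.pair hτ hs (hR.trans (core_inf_le_right _ _))
  set Q := core p (H ⊓ τ) with hQdef
  have hinv : Inv Q ((orb ⊤ H \ {H}) \ {τ}) :=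
    (c.inv_rest.mono hQ.lt.le).sdiff (inv_singleton (core_inf_le_right H τ))
  have hno : ∀ σ ∈ (orb ⊤ H \ {H}) \ {τ}, ¬ Q ≤ σ := by
    intro σ hσ hle
    simp only [Finset.mem_sdiff, Finset.mem_singleton] at hσ
    rcases c.lines hp.ge hτ hs (hR.trans (core_inf_le_right _ _)) hσ.1.1 hle with e | e
    · exact hσ.1.2 e
    · exact hσ.2 e
  have hW : W R ((orb ⊤ H \ {H}) \ {τ}) = p := by
    rw [W_sdiff R (by simp [hτ, hs]), c.W_rest, W_singleton R (hR.trans (core_inf_le_right _ _))]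
    ring
  obtain ⟨y, hy, hyR⟩ := exists_le_cj_of_small R (c.below Q hQ.pg (ne_top_of_lt_of_le hQ.lt le_rfl))
    hR hinv (fun σ hσ => c.hasSylow_of_mem (Finset.mem_sdiff.1 (Finset.mem_sdiff.1 hσ).1).1) hno
    (by rw [hW, hp]; norm_num) (τ := ρ) (by simp [hρ, hρH, hρτ])
  have hT : HasSylow p (H ⊓ τ ⊓ ρ) := by
    refine ⟨y⁻¹ • R, ?_⟩
    rw [coe_smul_sylow, cj_le_iff, inv_inv, cj_inf, le_inf_iff]
    refine ⟨?_, hyR⟩
    rw [cj_eq_self (core_le (p := p) (H ⊓ τ) hy)]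
    exact hR.trans (core_le _)
  have hfix : cj s (H ⊓ τ ⊓ ρ) = H ⊓ τ ⊓ ρ := by
    rw [cj_inf, cj_inf, ← hτdef, ← hρdef, hs3, inf_comm (τ ⊓ ρ) H, inf_assoc]
  exact hs (cj_eq_self (mem_of_cj_eq hT hk hfix).1.1)

end Ctx

end Cfsg.Agent.SylowFix
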